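import Groth.Agent.Lib.Helper2.UnitsTh.Step3

/-!
# The step: `0 → U₁ → U₂ → ker γ → 0` and the vanishing consequence
-/

set_option autoImplicit false
universe u
open CategoryTheory CategoryTheory.Limits Opposite TopologicalSpace AlgebraicGeometry

namespace Groth.Agent.Lib.Helper2.UnitsTh

variable {X Z₁ Z₂ Z₀ : Scheme.{u}} (i₁ : Z₁ ⟶ X) (g : Z₂ ⟶ Z₁) (i₀ : Z₀ ⟶ X) (s : Γ(X, ⊤))

theorem comap_comp : UnitsSh.comap (g ≫ i₁) = UnitsSh.comap i₁ ≫ γ i₁ g := rfl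

/-- `U₁ → U₂` -/
noncomputable def aMap : kernel (UnitsSh.comap i₁) ⟶ kernel (UnitsSh.comap (g ≫ i₁)) :=
  kernel.lift _ (kernel.ι (UnitsSh.comap i₁)) (by
    show kernel.ι (UnitsSh.comap i₁) ≫ (UnitsSh.comap i₁ ≫ γ i₁ g) = 0
    rw [← Category.assoc, kernel.condition, zero_comp])

/-- `U₂ → ker γ` -/
noncomputable def bMap : kernel (UnitsSh.comap (g ≫ i₁)) ⟶ kernel (γ i₁ g) :=
  kernel.lift _ (kernel.ι (UnitsSh.comap (g ≫ i₁)) ≫ UnitsSh.comap i₁) (by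
    rw [Category.assoc]
    exact kernel.condition (UnitsSh.comap (g ≫ i₁)))

theorem aMap_ι : aMap i₁ g ≫ kernel.ι (UnitsSh.comap (g ≫ i₁)) = kernel.ι (UnitsSh.comap i₁) :=
  kernel.lift_ι _ _ _

theorem bMap_ι : bMap i₁ g ≫ kernel.ι (γ i₁ g) =
    kernel.ι (UnitsSh.comap (g ≫ i₁)) ≫ UnitsSh.comap i₁ := kernel.lift_ι _ _ _

theorem aMap_bMap : aMap i₁ g ≫ bMap i₁ g = 0 := by
  rw [← cancel_mono (kernel.ι (γ i₁ g)), Category.assoc, bMap_ι, ← Category.assoc, aMap_ι,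
    kernel.condition, zero_comp]

theorem aMap_ι_app (U : (Opens X)ᵒᵖ) (y : (kernel (UnitsSh.comap i₁)).obj.obj U) :
    (kernel.ι (UnitsSh.comap (g ≫ i₁))).hom.app U ((aMap i₁ g).hom.app U y) =
      (kernel.ι (UnitsSh.comap i₁)).hom.app U y := by
  have h := congrArg (fun φ : kernel (UnitsSh.comap i₁) ⟶ UnitsSh.unitsAb X => φ.hom.app U y)
    (aMap_ι i₁ g)
  exact h

theorem bMap_ι_app (U : (Opens X)ᵒᵖ) (e : (kernel (UnitsSh.comap (g ≫ i₁))).obj.obj U) :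
    (kernel.ι (γ i₁ g)).hom.app U ((bMap i₁ g).hom.app U e) =
      (UnitsSh.comap i₁).hom.app U ((kernel.ι (UnitsSh.comap (g ≫ i₁))).hom.app U e) := by
  have h := congrArg (fun φ : kernel (UnitsSh.comap (g ≫ i₁)) ⟶ V₁ i₁ => φ.hom.app U e)
    (bMap_ι i₁ g)
  exact h

theorem shortExact_A [Epi (UnitsSh.comap i₁)] :
    (ShortComplex.mk (aMap i₁ g) (bMap i₁ g) (aMap_bMap i₁ g)).ShortExact := by
  apply shortExact_of_local
  · intro U y y' h
    apply kernel_ι_injective (UnitsSh.comap i₁) U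
    have h2 := congrArg ((kernel.ι (UnitsSh.comap (g ≫ i₁))).hom.app U) h
    rw [aMap_ι_app, aMap_ι_app] at h2
    exact h2
  · intro U e he
    have h1 : (UnitsSh.comap i₁).hom.app U
        ((kernel.ι (UnitsSh.comap (g ≫ i₁))).hom.app U e) = 0 := by
      rw [← bMap_ι_app]
      show (kernel.ι (γ i₁ g)).hom.app U ((bMap i₁ g).hom.app U e) = 0
      rw [show (bMap i₁ g).hom.app U e = 0 from he, map_zero]
    obtain ⟨y, hy⟩ := exists_kernel_ι_eq (UnitsSh.comap i₁) U _ h1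
    refine ⟨y, ?_⟩
    apply kernel_ι_injective (UnitsSh.comap (g ≫ i₁)) U
    show (kernel.ι (UnitsSh.comap (g ≫ i₁))).hom.app U ((aMap i₁ g).hom.app U y) = _
    rw [aMap_ι_app, hy]
  · intro U t x hx
    set v := (kernel.ι (γ i₁ g)).hom.app (op U) t with hv
    obtain ⟨V, hVU, hxV, u, hu⟩ := local_of_epi (UnitsSh.comap i₁) U v x hx
    have hγv : (γ i₁ g).hom.app (op U) v = 0 := kernel_ι_comp_apply _ _ _
    have h2 : (UnitsSh.comap (g ≫ i₁)).hom.app (op V) u = 0 := by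
      show (γ i₁ g).hom.app (op V) ((UnitsSh.comap i₁).hom.app (op V) u) = 0
      rw [hu]
      have hn := ConcreteCategory.congr_hom ((γ i₁ g).hom.naturality (homOfLE hVU).op) v
      rw [ConcreteCategory.comp_apply, ConcreteCategory.comp_apply] at hn
      rw [hn, hγv, map_zero]
    obtain ⟨e, he⟩ := exists_kernel_ι_eq (UnitsSh.comap (g ≫ i₁)) (op V) u h2
    refine ⟨V, hVU, hxV, e, ?_⟩
    apply kernel_ι_injective (γ i₁ g) (op V)
    show (kernel.ι (γ i₁ g)).hom.app (op V) ((bMap i₁ g).hom.app (op V) e) = _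
    rw [bMap_ι_app, he, hu]
    have hn := ConcreteCategory.congr_hom
      ((kernel.ι (γ i₁ g)).hom.naturality (homOfLE hVU).op) t
    rw [ConcreteCategory.comp_apply, ConcreteCategory.comp_apply] at hn
    exact hn.symm

/-- **The step.** -/
theorem step [IsAffineHom i₀] [Epi (UnitsSh.comap i₁)]
    (h1 : (i₁.app ⊤).hom (s * s) = 0) (h2 : ((g ≫ i₁).app ⊤).hom s = 0)
    (hs₁ : ∀ U : X.Opens, IsAffineOpen U → Function.Surjective (i₁.app U).hom)
    (hs₀ : ∀ U : X.Opens, IsAffineOpen U → Function.Surjective (i₀.app U).hom)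
    (hR2 : ∀ U : X.Opens, IsAffineOpen U →
      RingHom.ker ((g ≫ i₁).app U).hom ≤ RingHom.ker (i₁.app U).hom ⊔ Ideal.span {sU s U})
    (hR3 : ∀ U : X.Opens, IsAffineOpen U → ∀ b : Γ(X, U),
      (i₁.app U).hom (sU s U * b) = 0 ↔ (i₀.app U).hom b = 0)
    (p : ℕ) (hU₁ : Subsingleton (Sheaf.H.{u} (kernel (UnitsSh.comap i₁)) p))
    (h₀ : Subsingleton (Coh.HH Z₀ (Coh.structureModule Z₀) p)) :
    Subsingleton (Sheaf.H.{u} (kernel (UnitsSh.comap (g ≫ i₁))) p) := by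
  obtain ⟨e⟩ := nonempty_kernel_γ_iso i₁ g i₀ s h1 h2 hs₁ hs₀ hR2 hR3
  obtain ⟨e'⟩ := Groth.Agent.Lib.Helper22.Cech.nonempty_HH_addEquiv_HH_push i₀
    (Coh.structureModule Z₀) p
  have h3 : Subsingleton (Sheaf.H.{u} (pushO i₀) p) := e'.symm.toEquiv.subsingleton
  have hV : Subsingleton (Sheaf.H.{u} (kernel (γ i₁ g)) p) := subsingleton_H_of_iso e.symm p h3
  exact subsingleton_H_X₂ (shortExact_A i₁ g) p hU₁ hV

end Groth.Agent.Lib.Helper2.UnitsTh
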