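import Groth.Agent.Lib.Helper2.UnitsTh.Pull
import Groth.Agent.Lib.Helper2.UnitsTh.Step4

/-!
# Principal units of flat schemes over local rings
-/

set_option autoImplicit false
universe u
open CategoryTheory CategoryTheory.Limits Opposite TopologicalSpace AlgebraicGeometry

namespace Groth.Agent.Lib.Helper2.UnitsTh

variable {X' : Scheme.{u}} {A : Type u} [CommRing A] (f : X' ⟶ Spec (CommRingCat.of A))

theorem flat_φU [Flat f] (U : X'.Opens) (hU : IsAffineOpen U) : (φU f U).Flat := by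
  have h1 : (f.appLE ⊤ U (leTop f U)).hom.Flat :=
    HasRingHomProperty.appLE (P := @Flat) f inferInstance ⟨⊤, isAffineOpen_top _⟩ ⟨U, hU⟩ _
  have h2 : (Scheme.ΓSpecIso (CommRingCat.of A)).inv.hom.Flat :=
    RingHom.Flat.of_bijective (ConcreteCategory.bijective_of_isIso _)
  exact h2.comp h1

/-- the global function attached to an element of `A` -/
noncomputable abbrev sX (a : A) : Γ(X', ⊤) := φU f ⊤ a

theorem sU_sX (a : A) (U : X'.Opens) : sU (sX f a) U = φU f U a := φU_map f le_top a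

/-- transition between base changes -/
noncomputable def gJ {J' J : Ideal A} (h : J' ≤ J) : pullback f (qI J) ⟶ pullback f (qI J') :=
  pullback.lift (pullback.fst f (qI J))
    (pullback.snd f (qI J) ≫ Spec.map (CommRingCat.ofHom (Ideal.Quotient.factor h))) (by
      rw [Category.assoc, ← Spec.map_comp, ← CommRingCat.ofHom_comp, Ideal.Quotient.factor_comp_mk]
      exact pullback.condition)

theorem gJ_iI {J' J : Ideal A} (h : J' ≤ J) : gJ f h ≫ iI f J' = iI f J := pullback.lift_fst _ _ _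

/-- `O^× → i_* O^×` is an epimorphism for nil ideals -/
theorem epi_comap_iI (J : Ideal A) (hnil : ∀ a ∈ J, IsNilpotent a) :
    Epi (UnitsSh.comap (iI f J)) := by
  apply epi_comap
  · intro U hU
    exact (iI f J).app_surjective U hU
  · intro U hU a ha
    rw [ker_iI_app f J U hU] at ha
    -- elements of `J B` are nilpotent
    have hle : J.map (φU f U) ≤ nilradical Γ(X', U) := by
      refine Ideal.span_le.2 ?_
      rintro _ ⟨b, hb, rfl⟩
      exact (hnil b hb).map _
    exact hle ha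

variable [IsLocalRing A]

/-- the closed fibre -/
noncomputable abbrev X₀ : Scheme.{u} := pullback f (qI (IsLocalRing.maximalIdeal A))

theorem step_gen [Flat f] {Z₂ : Scheme.{u}} (J' : Ideal A) (g : Z₂ ⟶ pullback f (qI J'))
    (i₂ : Z₂ ⟶ X') (hg : g ≫ iI f J' = i₂) (sA : A)
    (hcol : ∀ a, a * sA ∈ J' ↔ a ∈ IsLocalRing.maximalIdeal A)
    (hss : sA * sA ∈ J') (h2 : (i₂.app ⊤).hom (sX f sA) = 0)
    (hR2 : ∀ U : X'.Opens, IsAffineOpen U →
      RingHom.ker (i₂.app U).hom ≤ (J' ⊔ Ideal.span {sA}).map (φU f U))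
    [Epi (UnitsSh.comap (iI f J'))] (p : ℕ)
    (h1 : Subsingleton (Sheaf.H.{u} (kernel (UnitsSh.comap (iI f J'))) p))
    (h0 : Subsingleton (Coh.HH (X₀ f) (Coh.structureModule (X₀ f)) p)) :
    Subsingleton (Sheaf.H.{u} (kernel (UnitsSh.comap i₂)) p) := by
  subst hg
  refine step (iI f J') g (iI f (IsLocalRing.maximalIdeal A)) (sX f sA) ?_ h2 ?_ ?_ ?_ ?_ p h1 h0
  · rw [← map_mul]
    exact iI_app_φU f J' ⊤ _ hss
  · intro U hU
    exact (iI f J').app_surjective U hU
  · intro U hU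
    exact (iI f _).app_surjective U hU
  · intro U hU
    refine (hR2 U hU).trans ?_
    rw [Ideal.map_sup, Ideal.map_span, Set.image_singleton, ker_iI_app f J' U hU, sU_sX]
  · intro U hU b
    rw [← RingHom.mem_ker, ← RingHom.mem_ker, ker_iI_app f J' U hU,
      ker_iI_app f _ U hU, sU_sX]
    letI : Algebra A Γ(X', U) := (φU f U).toAlgebra
    haveI : Module.Flat A Γ(X', U) := flat_φU f U hU
    exact flat_colon A Γ(X', U) J' (IsLocalRing.maximalIdeal A) sA hcol b

/-- the step for ideals -/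
theorem step_ideal [Flat f] (J' J : Ideal A) (sA : A) (hJ : J = J' ⊔ Ideal.span {sA})
    (hcol : ∀ a, a * sA ∈ J' ↔ a ∈ IsLocalRing.maximalIdeal A) (hss : sA * sA ∈ J')
    [Epi (UnitsSh.comap (iI f J'))] (p : ℕ)
    (h1 : Subsingleton (Sheaf.H.{u} (kernel (UnitsSh.comap (iI f J'))) p))
    (h0 : Subsingleton (Coh.HH (X₀ f) (Coh.structureModule (X₀ f)) p)) :
    Subsingleton (Sheaf.H.{u} (kernel (UnitsSh.comap (iI f J))) p) := by
  have hle : J' ≤ J := hJ ▸ le_sup_left
  have hsJ : sA ∈ J := hJ ▸ (Ideal.mem_sup_right (Ideal.subset_span (Set.mem_singleton _)))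
  refine step_gen f J' (gJ f hle) (iI f J) (gJ_iI f hle) sA hcol hss ?_ ?_ p h1 h0
  · exact iI_app_φU f J ⊤ sA hsJ
  · intro U hU
    rw [ker_iI_app f J U hU, hJ]

/-- principal units for the zero ideal -/
theorem isZero_kernel_bot : IsZero (kernel (UnitsSh.comap (iI f (⊥ : Ideal A)))) := by
  apply isZero_of_subsingleton
  rintro ⟨U⟩
  refine subsingleton_of_forall_eq 0 (fun y => ?_)
  apply kernel_ι_injective (UnitsSh.comap (iI f (⊥ : Ideal A))) (op U)
  rw [map_zero]
  apply eq_zero_of_affine (UnitsSh.unitsAb X') U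
  intro W hW hWa
  have hn := ConcreteCategory.congr_hom
    ((kernel.ι (UnitsSh.comap (iI f (⊥ : Ideal A)))).hom.naturality (homOfLE hW).op) y
  rw [ConcreteCategory.comp_apply, ConcreteCategory.comp_apply] at hn
  rw [← hn]
  set y' := (kernel (UnitsSh.comap (iI f (⊥ : Ideal A)))).obj.map (homOfLE hW).op y with hy'
  set u := (kernel.ι (UnitsSh.comap (iI f (⊥ : Ideal A)))).hom.app (op W) y' with hu
  have h0 : (UnitsSh.comap (iI f (⊥ : Ideal A))).hom.app (op W) u = 0 :=
    kernel_ι_comp_apply _ _ _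
  have h1 : ((iI f (⊥ : Ideal A)).app W).hom
      ((UnitsSh.unitOfSect u : (Γ(X', W))ˣ) : Γ(X', W)) = 1 := by
    rw [← comap_app_unit, h0]
    rfl
  have h2 : ((UnitsSh.unitOfSect u : (Γ(X', W))ˣ) : Γ(X', W)) - 1 ∈
      RingHom.ker ((iI f (⊥ : Ideal A)).app W).hom := by
    rw [RingHom.mem_ker, map_sub, h1, map_one, sub_self]
  rw [ker_iI_app f ⊥ W hWa, Ideal.map_bot, Ideal.mem_bot, sub_eq_zero] at h2
  have h3 : (UnitsSh.unitOfSect u : (Γ(X', W))ˣ) = 1 := Units.ext h2
  exact h3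

end Groth.Agent.Lib.Helper2.UnitsTh
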