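import Groth.Prelude.Def_UnitsSh
import Groth.Agent.Lib.Helper22.SheafExact
import Mathlib

/-!
# Cohomological consequences of short exact sequences of abelian sheaves (site version)
-/

set_option autoImplicit false
universe u
open CategoryTheory CategoryTheory.Limits Opposite

namespace Groth.Agent.Lib.Helper2.UnitsTh

variable {C : Type u} [SmallCategory C] {J : GrothendieckTopology C}

/-- cohomology only depends on the isomorphism class -/
theorem subsingleton_H_of_iso {F G : Sheaf J AddCommGrpCat.{u}} (e : F ≅ G) (n : ℕ)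
    (h : Subsingleton (Sheaf.H.{u} F n)) : Subsingleton (Sheaf.H.{u} G n) := by
  refine subsingleton_of_forall_eq 0 (fun x => ?_)
  have h1 : Sheaf.H.map e.hom n (Sheaf.H.map e.inv n x) = x := by
    rw [← Sheaf.H.map_comp_apply, e.inv_hom_id, Sheaf.H.map_id_apply]
  rw [← h1, Subsingleton.elim (Sheaf.H.map e.inv n x) 0, map_zero]

theorem subsingleton_H_of_isZero {F : Sheaf J AddCommGrpCat.{u}} (hF : IsZero F) (n : ℕ) :
    Subsingleton (Sheaf.H.{u} F n) := by
  refine subsingleton_of_forall_eq 0 (fun x => ?_)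
  have h1 : Sheaf.H.map (𝟙 F) n x = x := Sheaf.H.map_id_apply x
  have h2 : (𝟙 F) = 0 := hF.eq_of_src _ _
  rw [← h1, h2, Sheaf.H.map_apply, Abelian.Ext.mk₀_zero, Abelian.Ext.comp_zero]

variable {S : ShortComplex (Sheaf J AddCommGrpCat.{u})} (hS : S.ShortExact)

include hS in
/-- middle vanishing from outer vanishing -/
theorem subsingleton_H_X₂ (n : ℕ) (h1 : Subsingleton (Sheaf.H.{u} S.X₁ n))
    (h3 : Subsingleton (Sheaf.H.{u} S.X₃ n)) : Subsingleton (Sheaf.H.{u} S.X₂ n) := by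
  refine subsingleton_of_forall_eq 0 (fun x => ?_)
  have hx : x.comp (Abelian.Ext.mk₀ S.g) (add_zero n) = 0 := Subsingleton.elim _ _
  obtain ⟨x₁, hx₁⟩ := Abelian.Ext.covariant_sequence_exact₂ _ hS x hx
  rw [← hx₁, Subsingleton.elim x₁ 0, Abelian.Ext.zero_comp]

include hS in
/-- surjectivity on `H^n` from vanishing of `H^{n+1}` of the kernel -/
theorem surjective_H_map_g (n : ℕ) (h1 : Subsingleton (Sheaf.H.{u} S.X₁ (n + 1))) :
    Function.Surjective (Sheaf.H.map S.g n) := by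
  intro x₃
  have hx : x₃.comp hS.extClass (rfl : n + 1 = n + 1) = 0 := Subsingleton.elim _ _
  obtain ⟨x₂, hx₂⟩ := Abelian.Ext.covariant_sequence_exact₃ _ hS x₃ rfl hx
  exact ⟨x₂, hx₂⟩

include hS in
/-- the kernel of `H^n(g)` is the image of `H^n(f)` -/
theorem ker_H_map_g (n : ℕ) (x : Sheaf.H.{u} S.X₂ n) (hx : Sheaf.H.map S.g n x = 0) :
    ∃ y : Sheaf.H.{u} S.X₁ n, Sheaf.H.map S.f n y = x :=
  Abelian.Ext.covariant_sequence_exact₂ _ hS x hx

theorem H_map_f_g (n : ℕ) (y : Sheaf.H.{u} S.X₁ n) :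
    Sheaf.H.map S.g n (Sheaf.H.map S.f n y) = 0 := by
  rw [← Sheaf.H.map_comp_apply, S.zero, Sheaf.H.map_apply, Abelian.Ext.mk₀_zero,
    Abelian.Ext.comp_zero]

include hS in
/-- injectivity of `H^{n+1}(f)` from surjectivity of `H^n(g)` -/
theorem injective_H_map_f_succ (n : ℕ) (hsurj : Function.Surjective (Sheaf.H.map S.g n)) :
    Function.Injective (Sheaf.H.map S.f (n + 1)) := by
  rw [injective_iff_map_eq_zero]
  intro y hy
  obtain ⟨x₃, hx₃⟩ := Abelian.Ext.covariant_sequence_exact₁ _ hS y hy rfl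
  obtain ⟨x₂, rfl⟩ := hsurj x₃
  rw [← hx₃, Sheaf.H.map_apply, Abelian.Ext.comp_assoc_of_second_deg_zero,
    hS.comp_extClass, Abelian.Ext.comp_zero]

include hS in
theorem injective_H_map_f_zero : Function.Injective (Sheaf.H.map S.f 0) := by
  rw [injective_iff_map_eq_zero]
  intro y hy
  have := hS.mono_f
  obtain ⟨φ, rfl⟩ := (Abelian.Ext.mk₀_bijective _ _).2 y
  rw [Sheaf.H.map_apply, Abelian.Ext.mk₀_comp_mk₀] at hy
  have h0 : φ ≫ S.f = 0 := (Abelian.Ext.mk₀_bijective _ _).1 (by rw [hy, Abelian.Ext.mk₀_zero])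
  have : φ = 0 := by rw [← cancel_mono S.f, h0, zero_comp]
  rw [this, Abelian.Ext.mk₀_zero]

end Groth.Agent.Lib.Helper2.UnitsTh
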