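import Groth.Agent.Lib.Helper2.UnitsTh.TangentApp

/-!
# The tangent space of `H^q(O^×)`: first order deformations over the dual numbers
-/

set_option autoImplicit false
universe u
open CategoryTheory CategoryTheory.Limits Opposite TopologicalSpace AlgebraicGeometry
open DualNumber TrivSqZeroExt

namespace Groth.Agent.Lib.Helper2.UnitsTh

variable (k : Type u) [Field k]

theorem fstk_surjective : Function.Surjective (TrivSqZeroExt.fstHom k k k).toRingHom := by
  intro a
  exact ⟨TrivSqZeroExt.inl a, rfl⟩

theorem mem_ker_fstk (a : DualNumber k) :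
    a ∈ RingHom.ker (TrivSqZeroExt.fstHom k k k).toRingHom ↔ a.fst = 0 := Iff.rfl

theorem ker_fstk : RingHom.ker (TrivSqZeroExt.fstHom k k k).toRingHom =
    Ideal.span {(ε : DualNumber k)} := by
  ext a
  rw [mem_ker_fstk, Ideal.mem_span_singleton']
  constructor
  · intro h
    refine ⟨TrivSqZeroExt.inl a.snd, ?_⟩
    ext
    · simp [h]
    · simp
  · rintro ⟨b, rfl⟩
    simp

theorem hcol_eps (a : DualNumber k) :
    a * ε = 0 ↔ a ∈ RingHom.ker (TrivSqZeroExt.fstHom k k k).toRingHom := by
  rw [mem_ker_fstk]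
  constructor
  · intro h
    have := congrArg TrivSqZeroExt.snd h
    simpa using this
  · intro h
    ext
    · simp [h]
    · simp [h]

theorem fstk_comp_alg : (TrivSqZeroExt.fstHom k k k).toRingHom.comp
    (algebraMap k (DualNumber k)) = RingHom.id k := by
  ext a
  rfl

instance subsingleton_Spec_field : Subsingleton (Spec (CommRingCat.of k)) :=
  inferInstanceAs (Subsingleton (PrimeSpectrum k))

theorem flat_of_field {Y : Scheme.{u}} (g : Y ⟶ Spec (CommRingCat.of k)) : Flat g := by
  infer_instance

variable {k} {X₀ : Scheme.{u}} (g : X₀ ⟶ Spec (CommRingCat.of k))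

/-- `Spec k[ε] → Spec k` -/
noncomputable abbrev pk : Spec (CommRingCat.of (DualNumber k)) ⟶ Spec (CommRingCat.of k) :=
  Spec.map (CommRingCat.ofHom (algebraMap k (DualNumber k)))

/-- `Spec k → Spec k[ε]` -/
noncomputable abbrev jk : Spec (CommRingCat.of k) ⟶ Spec (CommRingCat.of (DualNumber k)) :=
  qφ (TrivSqZeroExt.fstHom k k k).toRingHom

theorem jk_pk : jk (k := k) ≫ pk = 𝟙 _ := by
  rw [← Spec.map_comp, ← CommRingCat.ofHom_comp, fstk_comp_alg]
  exact Spec.map_id _

/-- the trivial deformation `X₀[ε] → Spec k[ε]` -/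
noncomputable abbrev fε : pullback g (pk (k := k)) ⟶ Spec (CommRingCat.of (DualNumber k)) :=
  pullback.snd g pk

/-- the endomorphism of `X₀[ε]` killing `ε` -/
noncomputable def σε : pullback g (pk (k := k)) ⟶ pullback g (pk (k := k)) :=
  pullback.lift (pullback.fst g pk) (pullback.snd g pk ≫ pk ≫ jk) (by
    rw [Category.assoc, Category.assoc, jk_pk, Category.comp_id]
    exact pullback.condition)

theorem σε_fst : σε g ≫ pullback.fst g pk = pullback.fst g pk := pullback.lift_fst _ _ _

theorem σε_snd : σε g ≫ pullback.snd g pk = pullback.snd g pk ≫ pk ≫ jk :=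
  pullback.lift_snd _ _ _

/-- the retraction of `X₀[ε]` onto its closed fibre -/
noncomputable def rε : pullback g (pk (k := k)) ⟶ pullback (fε g) (jk (k := k)) :=
  pullback.lift (σε g) (fε g ≫ pk) (by
    rw [σε_snd, Category.assoc])

theorem iφ_σε : iφ (fε g) (TrivSqZeroExt.fstHom k k k).toRingHom ≫ σε g =
    iφ (fε g) (TrivSqZeroExt.fstHom k k k).toRingHom := by
  apply pullback.hom_ext
  · rw [Category.assoc, σε_fst]
  · rw [Category.assoc, σε_snd]
    have hc : iφ (fε g) (TrivSqZeroExt.fstHom k k k).toRingHom ≫ pullback.snd g pk =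
        pullback.snd (fε g) jk ≫ jk := pullback.condition
    rw [← Category.assoc, hc, Category.assoc, ← Category.assoc jk, jk_pk, Category.id_comp]

theorem iφ_rε : iφ (fε g) (TrivSqZeroExt.fstHom k k k).toRingHom ≫ rε g = 𝟙 _ := by
  apply pullback.hom_ext
  · rw [Category.assoc, rε, pullback.lift_fst, iφ_σε, Category.id_comp]
  · rw [Category.assoc, rε, pullback.lift_snd, Category.id_comp]
    have hc : iφ (fε g) (TrivSqZeroExt.fstHom k k k).toRingHom ≫ fε g =
        pullback.snd (fε g) jk ≫ jk := pullback.condition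
    rw [← Category.assoc, hc, Category.assoc, jk_pk, Category.comp_id]

/-- **The tangent space of `H^q(O^×)`.** -/
theorem nonempty_ker_addEquiv_dualNumber (q : ℕ) :
    Nonempty ((Sheaf.H.map (UnitsSh.comap
      (iφ (fε g) (TrivSqZeroExt.fstHom k k k).toRingHom)) q).ker ≃+
      Coh.HH (pullback (fε g) (jk (k := k)))
        (Coh.structureModule (pullback (fε g) (jk (k := k)))) q) := by
  have hflat : Flat g := flat_of_field k g
  have hflat' : Flat (fε g) := inferInstance
  exact nonempty_ker_addEquiv (fε g) (TrivSqZeroExt.fstHom k k k).toRingHom (fstk_surjective k)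
    ε (ker_fstk k) (hcol_eps k) DualNumber.eps_mul_eps (rε g) (iφ_rε g) q

end Groth.Agent.Lib.Helper2.UnitsTh
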