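import Mathlib

/-!
# Ring-theoretic inputs: pushouts along surjections, colon ideals under flat base change,
socle elements in Artinian local rings
-/

set_option autoImplicit false
universe u
open CategoryTheory CategoryTheory.Limits TensorProduct

namespace Groth.Agent.Lib.Helper2.UnitsTh

/-- In a pushout square of commutative rings along a surjection `q`, the kernel of the pushed-out
map is generated by the kernel of `q`. -/
theorem ker_eq_map_of_isPushout {A B Q C : CommRingCat.{u}} {φ : A ⟶ B} {q : A ⟶ Q} {c : B ⟶ C}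
    {d : Q ⟶ C} (P : IsPushout φ q c d) (hq : Function.Surjective q.hom) :
    RingHom.ker c.hom = (RingHom.ker q.hom).map φ.hom := by
  apply le_antisymm
  · intro b hb
    set K := (RingHom.ker q.hom).map φ.hom with hK
    let π : B ⟶ CommRingCat.of (B ⧸ K) := CommRingCat.ofHom (Ideal.Quotient.mk K)
    have hle : RingHom.ker q.hom ≤ RingHom.ker ((Ideal.Quotient.mk K).comp φ.hom) := by
      intro a ha
      rw [RingHom.mem_ker, RingHom.comp_apply, Ideal.Quotient.eq_zero_iff_mem]
      exact Ideal.mem_map_of_mem _ ha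
    let ψ : Q ⟶ CommRingCat.of (B ⧸ K) :=
      CommRingCat.ofHom (RingHom.liftOfSurjective q.hom hq ⟨_, hle⟩)
    have hcomm : φ ≫ π = q ≫ ψ := by
      ext a
      show (Ideal.Quotient.mk K) (φ.hom a) = (RingHom.liftOfSurjective q.hom hq ⟨_, hle⟩) (q.hom a)
      rw [RingHom.liftOfRightInverse_comp_apply]
      rfl
    have h1 : c ≫ P.desc π ψ hcomm = π := P.inl_desc _ _ _
    have h2 := ConcreteCategory.congr_hom h1 b
    rw [ConcreteCategory.comp_apply] at h2
    have h3 : c.hom b = 0 := hb
    have h4 : (Ideal.Quotient.mk K) b = 0 := by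
      have : (ConcreteCategory.hom c) b = 0 := h3
      rw [this, map_zero] at h2
      exact h2.symm
    exact Ideal.Quotient.eq_zero_iff_mem.1 h4
  · rw [Ideal.map_le_iff_le_comap]
    intro a ha
    rw [Ideal.mem_comap, RingHom.mem_ker]
    have h1 := ConcreteCategory.congr_hom P.w a
    rw [ConcreteCategory.comp_apply, ConcreteCategory.comp_apply] at h1
    have h2 : (ConcreteCategory.hom q) a = 0 := ha
    rw [h2, map_zero] at h1
    exact h1

/-- colon ideals under flat base change, in the form needed -/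
theorem flat_colon (A B : Type u) [CommRing A] [CommRing B] [Algebra A B] [Module.Flat A B]
    (J' m : Ideal A) (sA : A) (hcol : ∀ a, a * sA ∈ J' ↔ a ∈ m) (b : B) :
    algebraMap A B sA * b ∈ J'.map (algebraMap A B) ↔ b ∈ m.map (algebraMap A B) := by
  constructor
  · intro hb
    -- the injection `A/m → A/J'`
    let f : A →ₗ[A] A := LinearMap.mulLeft A sA
    have hf : m ≤ Submodule.comap f J' := by
      intro a ha
      show sA * a ∈ J'
      rw [mul_comm]; exact (hcol a).2 ha
    let μ : (A ⧸ m) →ₗ[A] (A ⧸ J') := Submodule.mapQ m J' f hf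
    have hμ : Function.Injective μ := by
      rw [injective_iff_map_eq_zero]
      intro x hx
      obtain ⟨a, rfl⟩ := Submodule.Quotient.mk_surjective _ x
      have h1 : μ (Submodule.Quotient.mk a) = Submodule.Quotient.mk (sA * a) := rfl
      rw [h1, Submodule.Quotient.mk_eq_zero] at hx
      rw [Submodule.Quotient.mk_eq_zero]
      rw [mul_comm] at hx
      exact (hcol a).1 hx
    have hinj := Module.Flat.lTensor_preserves_injective_linearMap (M := B) μ hμ
    have h2 : μ.lTensor B (b ⊗ₜ[A] (Ideal.Quotient.mk m 1)) = 0 := by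
      rw [LinearMap.lTensor_tmul]
      have h3 : μ (Ideal.Quotient.mk m 1) = Ideal.Quotient.mk J' sA := by
        show Submodule.Quotient.mk (sA * 1) = _
        rw [mul_one]; rfl
      rw [h3]
      apply (TensorProduct.tensorQuotEquivQuotSMul B J').injective
      rw [TensorProduct.tensorQuotEquivQuotSMul_tmul_mk, map_zero, Submodule.Quotient.mk_eq_zero,
        Ideal.smul_top_eq_map]
      show sA • b ∈ J'.map (algebraMap A B)
      rw [Algebra.smul_def]
      exact hb
    have h4 : b ⊗ₜ[A] (Ideal.Quotient.mk m 1) = 0 := hinj (by rw [h2, map_zero])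
    have h5 := congrArg (TensorProduct.tensorQuotEquivQuotSMul B m) h4
    rw [TensorProduct.tensorQuotEquivQuotSMul_tmul_mk, map_zero, Submodule.Quotient.mk_eq_zero,
      Ideal.smul_top_eq_map, one_smul] at h5
    exact h5
  · intro hb
    let L : Ideal B := Submodule.comap (LinearMap.mulLeft B (algebraMap A B sA))
      (J'.map (algebraMap A B))
    have hL : m.map (algebraMap A B) ≤ L := by
      refine Ideal.span_le.2 ?_
      rintro _ ⟨a, ha, rfl⟩
      show algebraMap A B sA * algebraMap A B a ∈ J'.map (algebraMap A B)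
      rw [← map_mul, mul_comm]
      exact Ideal.mem_map_of_mem _ ((hcol a).2 ha)
    exact hL hb

/-- socle-type elements in Artinian local rings -/
theorem exists_socle_elt (A : Type u) [CommRing A] [IsArtinianRing A] [IsLocalRing A]
    (J' J : Ideal A) (h : J' < J) :
    ∃ sA ∈ J, sA ∉ J' ∧ ∀ a ∈ IsLocalRing.maximalIdeal A, a * sA ∈ J' := by
  obtain ⟨x, hxJ, hxJ'⟩ := SetLike.exists_of_lt h
  have hnil : IsNilpotent (IsLocalRing.maximalIdeal A) := by
    have := IsArtinianRing.isNilpotent_jacobson_bot (R := A)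
    rwa [IsLocalRing.jacobson_eq_maximalIdeal ⊥ bot_ne_top] at this
  obtain ⟨n, hn⟩ := hnil
  let P : ℕ → Prop := fun k => ∀ y ∈ (IsLocalRing.maximalIdeal A) ^ k, y * x ∈ J'
  have hPn : P n := by
    intro y hy
    rw [hn] at hy
    have : y = 0 := hy
    rw [this, zero_mul]; exact J'.zero_mem
  classical
  have hex : ∃ k, P k := ⟨n, hPn⟩
  have hk0 : Nat.find hex ≠ 0 := by
    intro h0
    have := Nat.find_spec hex
    rw [h0] at this
    apply hxJ'
    have h1 := this 1 (by rw [pow_zero]; exact Ideal.one_eq_top (R := A) ▸ (Submodule.mem_top : (1 : A) ∈ (⊤ : Ideal A)))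
    rwa [one_mul] at h1
  obtain ⟨k', hk'⟩ := Nat.exists_eq_succ_of_ne_zero hk0
  have hnot : ¬ P k' := Nat.find_min hex (by rw [hk']; exact Nat.lt_succ_self k')
  have hPk : P (k' + 1) := by
    have := Nat.find_spec hex
    rwa [hk'] at this
  simp only [P, not_forall] at hnot
  obtain ⟨y, hy, hyx⟩ := hnot
  refine ⟨y * x, J.mul_mem_left _ hxJ, hyx, ?_⟩
  intro a ha
  rw [← mul_assoc]
  apply hPk
  rw [pow_succ']
  exact Ideal.mul_mem_mul ha hy

theorem colon_eq_maximalIdeal (A : Type u) [CommRing A] [IsLocalRing A]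
    (J' : Ideal A) (sA : A) (hs : sA ∉ J')
    (hm : ∀ a ∈ IsLocalRing.maximalIdeal A, a * sA ∈ J') (a : A) :
    a * sA ∈ J' ↔ a ∈ IsLocalRing.maximalIdeal A := by
  constructor
  · intro ha
    by_contra hna
    have hu : IsUnit a := by
      by_contra h
      exact hna ((IsLocalRing.mem_maximalIdeal a).2 h)
    obtain ⟨u, rfl⟩ := hu
    apply hs
    have := J'.mul_mem_left (↑u⁻¹ : A) ha
    rwa [← mul_assoc, Units.inv_mul, one_mul] at this
  · exact hm a

end Groth.Agent.Lib.Helper2.UnitsTh
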