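import Groth.Agent.Lib.Helper2.UnitsTh.App
import Groth.Agent.Lib.Helper2.UnitsTh.RingLemmas
import Groth.Agent.Lib.Helper2.UnitsTh.Coh

/-!
# Main theorems on principal units over local rings
-/

set_option autoImplicit false
universe u
open CategoryTheory CategoryTheory.Limits Opposite TopologicalSpace AlgebraicGeometry

namespace Groth.Agent.Lib.Helper2.UnitsTh

variable {X' : Scheme.{u}} {A : Type u} [CommRing A] (f : X' ⟶ Spec (CommRingCat.of A))

/-- surjectivity on `H^q` from vanishing of `H^{q+1}` of the principal units -/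
theorem surjective_H_comap_iI (J : Ideal A) (hnil : ∀ a ∈ J, IsNilpotent a) (q : ℕ)
    (h : Subsingleton (Sheaf.H.{u} (kernel (UnitsSh.comap (iI f J))) (q + 1))) :
    Function.Surjective (Sheaf.H.map (UnitsSh.comap (iI f J)) q) := by
  have hepi := epi_comap_iI f J hnil
  set c := UnitsSh.comap (iI f J) with hc
  have hS : (ShortComplex.mk (kernel.ι c) c (kernel.condition c)).ShortExact :=
    ShortComplex.ShortExact.mk' (ShortComplex.exact_kernel c) inferInstance hepi
  exact surjective_H_map_g hS q h

variable [IsLocalRing A]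

/-- the case of a socle element -/
theorem subsingleton_H_kernel_span [Flat f] (t : A) (ht0 : t ≠ 0)
    (ht : t ∈ IsLocalRing.maximalIdeal A)
    (hmt : ∀ x ∈ IsLocalRing.maximalIdeal A, x * t = 0) (p : ℕ)
    (h0 : Subsingleton (Coh.HH (X₀ f) (Coh.structureModule (X₀ f)) p)) :
    Subsingleton (Sheaf.H.{u} (kernel (UnitsSh.comap (iI f (Ideal.span {t})))) p) := by
  have hepi : Epi (UnitsSh.comap (iI f (⊥ : Ideal A))) := by
    apply epi_comap_iI
    intro a ha
    rw [Ideal.mem_bot] at ha
    rw [ha]
    exact IsNilpotent.zero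
  refine step_ideal f ⊥ (Ideal.span {t}) t (bot_sup_eq _).symm ?_ ?_ p
    (subsingleton_H_of_isZero (isZero_kernel_bot f) p) h0
  · intro a
    refine colon_eq_maximalIdeal A ⊥ t ?_ ?_ a
    · simpa using ht0
    · intro a ha
      rw [Ideal.mem_bot]
      exact hmt a ha
  · rw [Ideal.mem_bot]
    exact hmt t ht

/-- nilpotence of elements of the maximal ideal -/
theorem isNilpotent_of_mem_maximalIdeal [IsArtinianRing A] (a : A)
    (ha : a ∈ IsLocalRing.maximalIdeal A) : IsNilpotent a := by
  have hnil : IsNilpotent (IsLocalRing.maximalIdeal A) := by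
    have := IsArtinianRing.isNilpotent_jacobson_bot (R := A)
    rwa [IsLocalRing.jacobson_eq_maximalIdeal ⊥ bot_ne_top] at this
  obtain ⟨n, hn⟩ := hnil
  refine ⟨n, ?_⟩
  have : a ^ n ∈ (IsLocalRing.maximalIdeal A) ^ n := Ideal.pow_mem_pow ha n
  rw [hn] at this
  simpa using this

/-- principal units have no cohomology in degrees where the closed fibre has none -/
theorem subsingleton_H_kernel_iI [IsArtinianRing A] [Flat f] (J : Ideal A)
    (hJ : J ≤ IsLocalRing.maximalIdeal A) (p : ℕ)
    (h0 : Subsingleton (Coh.HH (X₀ f) (Coh.structureModule (X₀ f)) p)) :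
    Subsingleton (Sheaf.H.{u} (kernel (UnitsSh.comap (iI f J))) p) := by
  have key : ∀ J' : Ideal A, J' ≤ J →
      Subsingleton (Sheaf.H.{u} (kernel (UnitsSh.comap (iI f J'))) p) →
      Subsingleton (Sheaf.H.{u} (kernel (UnitsSh.comap (iI f J))) p) := by
    intro J'
    induction J' using IsNoetherian.induction with
    | hgt J' ih =>
      intro hle hP
      rcases eq_or_lt_of_le hle with heq | hlt
      · rw [← heq]; exact hP
      · obtain ⟨sA, hsJ, hsJ', hm⟩ := exists_socle_elt A J' J hlt
        have hepi : Epi (UnitsSh.comap (iI f J')) :=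
          epi_comap_iI f J' (fun a ha => isNilpotent_of_mem_maximalIdeal a (hJ (hle ha)))
        have hle'' : J' ⊔ Ideal.span {sA} ≤ J :=
          sup_le hle ((Ideal.span_singleton_le_iff_mem _).2 hsJ)
        have hgt : J' < J' ⊔ Ideal.span {sA} := by
          refine lt_of_le_of_ne le_sup_left (fun h => hsJ' ?_)
          rw [h]
          exact Ideal.mem_sup_right (Ideal.subset_span (Set.mem_singleton _))
        refine ih _ hgt hle'' ?_
        exact step_ideal f J' _ sA rfl (colon_eq_maximalIdeal A J' sA hsJ' hm)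
          (hm sA (hJ hsJ)) p hP h0
  exact key ⊥ bot_le (subsingleton_H_of_isZero (isZero_kernel_bot f) p)

end Groth.Agent.Lib.Helper2.UnitsTh
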