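import Groth.Agent.Lib.Helper2.UnitsTh.RingLemmas
import Mathlib

/-!
# Sections of the base change of a scheme along `Spec (A/I) → Spec A`
-/

set_option autoImplicit false
universe u
open CategoryTheory CategoryTheory.Limits Opposite TopologicalSpace AlgebraicGeometry

namespace Groth.Agent.Lib.Helper2.UnitsTh

variable {X' : Scheme.{u}} {A : Type u} [CommRing A] (f : X' ⟶ Spec (CommRingCat.of A))
  (I : Ideal A)

/-- `Spec (A/I) → Spec A` -/
noncomputable abbrev qI : Spec (CommRingCat.of (A ⧸ I)) ⟶ Spec (CommRingCat.of A) :=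
  Spec.map (CommRingCat.ofHom (Ideal.Quotient.mk I))

instance : IsClosedImmersion (qI I) :=
  IsClosedImmersion.spec_of_surjective _ Ideal.Quotient.mk_surjective

/-- the closed immersion `X' ×_A A/I → X'` -/
noncomputable abbrev iI : pullback f (qI I) ⟶ X' := pullback.fst f (qI I)

theorem leTop (U : X'.Opens) : U ≤ f ⁻¹ᵁ ⊤ := fun _ _ => trivial

/-- the structure map `A → Γ(X', U)` -/
noncomputable def φU (U : X'.Opens) : A →+* Γ(X', U) :=
  (f.appLE ⊤ U (leTop f U)).hom.comp (Scheme.ΓSpecIso (CommRingCat.of A)).inv.hom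

theorem φU_map {U V : X'.Opens} (h : V ≤ U) (a : A) :
    (X'.presheaf.map (homOfLE h).op).hom (φU f U a) = φU f V a := by
  have h1 := f.appLE_map (leTop f U) (homOfLE h).op
  have h2 := ConcreteCategory.congr_hom h1 ((Scheme.ΓSpecIso (CommRingCat.of A)).inv.hom a)
  exact h2

theorem mem_ker_qI_appLE (e : (⊤ : (Spec (CommRingCat.of (A ⧸ I))).Opens) ≤ (qI I) ⁻¹ᵁ ⊤)
    (x : Γ(Spec (CommRingCat.of A), ⊤)) :
    x ∈ RingHom.ker ((qI I).appLE ⊤ ⊤ e).hom ↔
      (Scheme.ΓSpecIso (CommRingCat.of A)).hom.hom x ∈ I := by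
  have h0 : (qI I).appLE ⊤ ⊤ e = (qI I).appTop := by
    rw [Scheme.Hom.appLE]
    have : (homOfLE e) = 𝟙 _ := Subsingleton.elim _ _
    rw [this]
    erw [op_id, CategoryTheory.Functor.map_id, Category.comp_id]
  rw [h0, RingHom.mem_ker]
  have h1 := Scheme.ΓSpecIso_naturality (CommRingCat.ofHom (Ideal.Quotient.mk I))
  have h2 := ConcreteCategory.congr_hom h1 x
  rw [ConcreteCategory.comp_apply, ConcreteCategory.comp_apply] at h2
  constructor
  · intro hx
    have hx' : (ConcreteCategory.hom (qI I).appTop) x = 0 := hx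
    rw [hx', map_zero] at h2
    exact Ideal.Quotient.eq_zero_iff_mem.1 h2.symm
  · intro hx
    have h3 : (Ideal.Quotient.mk I) ((Scheme.ΓSpecIso (CommRingCat.of A)).hom.hom x) = 0 :=
      Ideal.Quotient.eq_zero_iff_mem.2 hx
    have h4 : (ConcreteCategory.hom (Scheme.ΓSpecIso (CommRingCat.of (A ⧸ I))).hom)
        ((ConcreteCategory.hom (qI I).appTop) x) = 0 := by
      rw [h2]; exact h3
    have hinj : Function.Injective
        (ConcreteCategory.hom (Scheme.ΓSpecIso (CommRingCat.of (A ⧸ I))).hom) :=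
      (ConcreteCategory.bijective_of_isIso _).1
    exact hinj (by rw [h4, map_zero])

theorem ker_qI_appLE (e : (⊤ : (Spec (CommRingCat.of (A ⧸ I))).Opens) ≤ (qI I) ⁻¹ᵁ ⊤) :
    RingHom.ker ((qI I).appLE ⊤ ⊤ e).hom =
      I.map (Scheme.ΓSpecIso (CommRingCat.of A)).inv.hom := by
  ext x
  rw [mem_ker_qI_appLE]
  constructor
  · intro hx
    have h1 := Ideal.mem_map_of_mem (Scheme.ΓSpecIso (CommRingCat.of A)).inv.hom hx
    have h2 : (Scheme.ΓSpecIso (CommRingCat.of A)).inv.hom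
        ((Scheme.ΓSpecIso (CommRingCat.of A)).hom.hom x) = x := by
      have := ConcreteCategory.congr_hom (Scheme.ΓSpecIso (CommRingCat.of A)).hom_inv_id x
      exact this
    rwa [h2] at h1
  · intro hx
    have hle : I.map (Scheme.ΓSpecIso (CommRingCat.of A)).inv.hom ≤
        I.comap (Scheme.ΓSpecIso (CommRingCat.of A)).hom.hom := by
      rw [Ideal.map_le_iff_le_comap]
      intro a ha
      rw [Ideal.mem_comap, Ideal.mem_comap]
      have := ConcreteCategory.congr_hom (Scheme.ΓSpecIso (CommRingCat.of A)).inv_hom_id a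
      have h3 : (Scheme.ΓSpecIso (CommRingCat.of A)).hom.hom
          ((Scheme.ΓSpecIso (CommRingCat.of A)).inv.hom a) = a := this
      rw [h3]; exact ha
    exact hle hx

theorem surjective_qI_appLE (e : (⊤ : (Spec (CommRingCat.of (A ⧸ I))).Opens) ≤ (qI I) ⁻¹ᵁ ⊤) :
    Function.Surjective ((qI I).appLE ⊤ ⊤ e).hom := by
  have h0 : (qI I).appLE ⊤ ⊤ e = (qI I).app ⊤ := by
    rw [Scheme.Hom.appLE]
    have : (homOfLE e) = 𝟙 _ := Subsingleton.elim _ _
    rw [this]
    erw [op_id, CategoryTheory.Functor.map_id, Category.comp_id]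
  rw [h0]
  exact (qI I).app_surjective ⊤ (isAffineOpen_top _)

/-- **Kernel of restriction to the base change**, over affine opens. -/
theorem ker_iI_app (U : X'.Opens) (hU : IsAffineOpen U) :
    RingHom.ker ((iI f I).app U).hom = I.map (φU f U) := by
  have H := IsPullback.of_hasPullback f (qI I)
  have hUST : (⊤ : (Spec (CommRingCat.of (A ⧸ I))).Opens) ≤ (qI I) ⁻¹ᵁ ⊤ := fun _ _ => trivial
  have hUY : (iI f I) ⁻¹ᵁ U = (pullback.fst f (qI I)) ⁻¹ᵁ U ⊓ (pullback.snd f (qI I)) ⁻¹ᵁ ⊤ := by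
    ext x
    simp
  have hiso := isIso_pushoutSection_of_isAffineOpen H hUST (leTop f U) hUY
    (isAffineOpen_top _) (isAffineOpen_top _) hU
  have P := (isIso_pushoutSection_iff H hUST (leTop f U) hUY).1 hiso
  have hk := ker_eq_map_of_isPushout P (surjective_qI_appLE I hUST)
  rw [ker_qI_appLE, Ideal.map_map] at hk
  rw [Scheme.Hom.app_eq_appLE]
  exact hk

/-- elements of `I` vanish on the base change, over all opens -/
theorem iI_app_φU (U : X'.Opens) (a : A) (ha : a ∈ I) :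
    ((iI f I).app U).hom (φU f U a) = 0 := by
  have hUST : (⊤ : (Spec (CommRingCat.of (A ⧸ I))).Opens) ≤ (qI I) ⁻¹ᵁ ⊤ := fun _ _ => trivial
  have h1 : f.appLE ⊤ U (leTop f U) ≫ (iI f I).appLE U ((iI f I) ⁻¹ᵁ U) le_rfl =
      (qI I).appLE ⊤ ⊤ hUST ≫ (pullback.snd f (qI I)).appLE ⊤ ((iI f I) ⁻¹ᵁ U)
        (fun _ _ => trivial) := by
    rw [Scheme.Hom.appLE_comp_appLE, Scheme.Hom.appLE_comp_appLE]
    have hw : iI f I ≫ f = pullback.snd f (qI I) ≫ qI I := pullback.condition
    congr 1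
  have h2 := ConcreteCategory.congr_hom h1 ((Scheme.ΓSpecIso (CommRingCat.of A)).inv.hom a)
  rw [ConcreteCategory.comp_apply, ConcreteCategory.comp_apply] at h2
  rw [Scheme.Hom.app_eq_appLE]
  refine h2.trans ?_
  have h3 : (Scheme.ΓSpecIso (CommRingCat.of A)).inv.hom a ∈
      RingHom.ker ((qI I).appLE ⊤ ⊤ hUST).hom := by
    rw [ker_qI_appLE]; exact Ideal.mem_map_of_mem _ ha
  have h4 : (ConcreteCategory.hom ((qI I).appLE ⊤ ⊤ hUST))
      ((Scheme.ΓSpecIso (CommRingCat.of A)).inv.hom a) = 0 := h3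
  rw [h4, map_zero]

end Groth.Agent.Lib.Helper2.UnitsTh
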