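import Groth.Agent.Lib.Helper2.UnitsTh.Pull

/-!
# Sections of the base change of a scheme along `Spec B → Spec A` for a surjection `A → B`
-/

set_option autoImplicit false
universe u
open CategoryTheory CategoryTheory.Limits Opposite TopologicalSpace AlgebraicGeometry

namespace Groth.Agent.Lib.Helper2.UnitsTh

variable {X' : Scheme.{u}} {A : Type u} [CommRing A] (f : X' ⟶ Spec (CommRingCat.of A))
  {B : Type u} [CommRing B] (φ : A →+* B)

/-- `Spec B → Spec A` -/
noncomputable abbrev qφ : Spec (CommRingCat.of B) ⟶ Spec (CommRingCat.of A) :=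
  Spec.map (CommRingCat.ofHom φ)

/-- the closed immersion `X' ×_A B → X'` -/
noncomputable abbrev iφ : pullback f (qφ φ) ⟶ X' := pullback.fst f (qφ φ)

theorem mem_ker_qφ_appLE (e : (⊤ : (Spec (CommRingCat.of B)).Opens) ≤ (qφ φ) ⁻¹ᵁ ⊤)
    (x : Γ(Spec (CommRingCat.of A), ⊤)) :
    x ∈ RingHom.ker ((qφ φ).appLE ⊤ ⊤ e).hom ↔
      (Scheme.ΓSpecIso (CommRingCat.of A)).hom.hom x ∈ RingHom.ker φ := by
  have h0 : (qφ φ).appLE ⊤ ⊤ e = (qφ φ).appTop := by
    rw [Scheme.Hom.appLE]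
    have : (homOfLE e) = 𝟙 _ := Subsingleton.elim _ _
    rw [this]
    erw [op_id, CategoryTheory.Functor.map_id, Category.comp_id]
  rw [h0, RingHom.mem_ker]
  have h1 := Scheme.ΓSpecIso_naturality (CommRingCat.ofHom φ)
  have h2 := ConcreteCategory.congr_hom h1 x
  rw [ConcreteCategory.comp_apply, ConcreteCategory.comp_apply] at h2
  constructor
  · intro hx
    have hx' : (ConcreteCategory.hom (qφ φ).appTop) x = 0 := hx
    rw [hx', map_zero] at h2
    exact h2.symm
  · intro hx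
    have h3 : φ ((Scheme.ΓSpecIso (CommRingCat.of A)).hom.hom x) = 0 := hx
    have h4 : (ConcreteCategory.hom (Scheme.ΓSpecIso (CommRingCat.of B)).hom)
        ((ConcreteCategory.hom (qφ φ).appTop) x) = 0 := by
      rw [h2]; exact h3
    have hinj : Function.Injective
        (ConcreteCategory.hom (Scheme.ΓSpecIso (CommRingCat.of B)).hom) :=
      (ConcreteCategory.bijective_of_isIso _).1
    exact hinj (by rw [h4, map_zero])

theorem ker_qφ_appLE (e : (⊤ : (Spec (CommRingCat.of B)).Opens) ≤ (qφ φ) ⁻¹ᵁ ⊤) :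
    RingHom.ker ((qφ φ).appLE ⊤ ⊤ e).hom =
      (RingHom.ker φ).map (Scheme.ΓSpecIso (CommRingCat.of A)).inv.hom := by
  ext x
  rw [mem_ker_qφ_appLE]
  constructor
  · intro hx
    have h1 := Ideal.mem_map_of_mem (Scheme.ΓSpecIso (CommRingCat.of A)).inv.hom hx
    have h2 : (Scheme.ΓSpecIso (CommRingCat.of A)).inv.hom
        ((Scheme.ΓSpecIso (CommRingCat.of A)).hom.hom x) = x := by
      have := ConcreteCategory.congr_hom (Scheme.ΓSpecIso (CommRingCat.of A)).hom_inv_id x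
      exact this
    rwa [h2] at h1
  · intro hx
    have hle : (RingHom.ker φ).map (Scheme.ΓSpecIso (CommRingCat.of A)).inv.hom ≤
        (RingHom.ker φ).comap (Scheme.ΓSpecIso (CommRingCat.of A)).hom.hom := by
      rw [Ideal.map_le_iff_le_comap]
      intro a ha
      rw [Ideal.mem_comap, Ideal.mem_comap]
      have := ConcreteCategory.congr_hom (Scheme.ΓSpecIso (CommRingCat.of A)).inv_hom_id a
      have h3 : (Scheme.ΓSpecIso (CommRingCat.of A)).hom.hom
          ((Scheme.ΓSpecIso (CommRingCat.of A)).inv.hom a) = a := this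
      rw [h3]; exact ha
    exact hle hx

variable (hφ : Function.Surjective φ)

include hφ in
theorem isClosedImmersion_qφ : IsClosedImmersion (qφ φ) :=
  IsClosedImmersion.spec_of_surjective _ hφ

include hφ in
theorem surjective_qφ_appLE (e : (⊤ : (Spec (CommRingCat.of B)).Opens) ≤ (qφ φ) ⁻¹ᵁ ⊤) :
    Function.Surjective ((qφ φ).appLE ⊤ ⊤ e).hom := by
  have h0 : (qφ φ).appLE ⊤ ⊤ e = (qφ φ).app ⊤ := by
    rw [Scheme.Hom.appLE]
    have : (homOfLE e) = 𝟙 _ := Subsingleton.elim _ _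
    rw [this]
    erw [op_id, CategoryTheory.Functor.map_id, Category.comp_id]
  rw [h0]
  have := isClosedImmersion_qφ φ hφ
  exact (qφ φ).app_surjective ⊤ (isAffineOpen_top _)

include hφ in
/-- **Kernel of restriction to the base change**, over affine opens. -/
theorem ker_iφ_app (U : X'.Opens) (hU : IsAffineOpen U) :
    RingHom.ker ((iφ f φ).app U).hom = (RingHom.ker φ).map (φU f U) := by
  have H := IsPullback.of_hasPullback f (qφ φ)
  have hUST : (⊤ : (Spec (CommRingCat.of B)).Opens) ≤ (qφ φ) ⁻¹ᵁ ⊤ := fun _ _ => trivial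
  have hUY : (iφ f φ) ⁻¹ᵁ U = (pullback.fst f (qφ φ)) ⁻¹ᵁ U ⊓ (pullback.snd f (qφ φ)) ⁻¹ᵁ ⊤ := by
    ext x
    simp
  have hiso := isIso_pushoutSection_of_isAffineOpen H hUST (leTop f U) hUY
    (isAffineOpen_top _) (isAffineOpen_top _) hU
  have P := (isIso_pushoutSection_iff H hUST (leTop f U) hUY).1 hiso
  have hk := ker_eq_map_of_isPushout P (surjective_qφ_appLE φ hφ hUST)
  rw [ker_qφ_appLE, Ideal.map_map] at hk
  rw [Scheme.Hom.app_eq_appLE]
  exact hk

/-- elements of the kernel vanish on the base change, over all opens -/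
theorem iφ_app_φU (U : X'.Opens) (a : A) (ha : φ a = 0) :
    ((iφ f φ).app U).hom (φU f U a) = 0 := by
  have hUST : (⊤ : (Spec (CommRingCat.of B)).Opens) ≤ (qφ φ) ⁻¹ᵁ ⊤ := fun _ _ => trivial
  have h1 : f.appLE ⊤ U (leTop f U) ≫ (iφ f φ).appLE U ((iφ f φ) ⁻¹ᵁ U) le_rfl =
      (qφ φ).appLE ⊤ ⊤ hUST ≫ (pullback.snd f (qφ φ)).appLE ⊤ ((iφ f φ) ⁻¹ᵁ U)
        (fun _ _ => trivial) := by
    rw [Scheme.Hom.appLE_comp_appLE, Scheme.Hom.appLE_comp_appLE]
    have hw : iφ f φ ≫ f = pullback.snd f (qφ φ) ≫ qφ φ := pullback.condition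
    congr 1
  have h2 := ConcreteCategory.congr_hom h1 ((Scheme.ΓSpecIso (CommRingCat.of A)).inv.hom a)
  rw [ConcreteCategory.comp_apply, ConcreteCategory.comp_apply] at h2
  rw [Scheme.Hom.app_eq_appLE]
  refine h2.trans ?_
  have h3 : (Scheme.ΓSpecIso (CommRingCat.of A)).inv.hom a ∈
      RingHom.ker ((qφ φ).appLE ⊤ ⊤ hUST).hom := by
    rw [ker_qφ_appLE]; exact Ideal.mem_map_of_mem _ ha
  have h4 : (ConcreteCategory.hom ((qφ φ).appLE ⊤ ⊤ hUST))
      ((Scheme.ΓSpecIso (CommRingCat.of A)).inv.hom a) = 0 := h3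
  rw [h4, map_zero]

end Groth.Agent.Lib.Helper2.UnitsTh
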