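import Groth.Agent.Lib.Helper2.UnitsTh.Sh
import Groth.Prelude.Def_UnitsSh

/-!
# Units along closed immersions with nilpotent kernel
-/

set_option autoImplicit false
universe u
open CategoryTheory CategoryTheory.Limits Opposite TopologicalSpace AlgebraicGeometry

namespace Groth.Agent.Lib.Helper2.UnitsTh

/-- units lift along surjections with nil kernel -/
theorem isUnit_of_map_of_ker_nil {R S : Type*} [CommRing R] [CommRing S] (f : R →+* S)
    (hf : Function.Surjective f) (hnil : ∀ a ∈ RingHom.ker f, IsNilpotent a) (b : R)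
    (hb : IsUnit (f b)) : IsUnit b := by
  obtain ⟨c, hc⟩ := hf (hb.unit⁻¹ : Sˣ)
  have h1 : f (b * c - 1) = 0 := by
    rw [map_sub, map_mul, hc, map_one]
    simp
  have h2 : IsNilpotent (b * c - 1) := hnil _ ((RingHom.mem_ker).2 h1)
  have h3 : IsUnit (b * c) := by
    have := h2.isUnit_add_one
    simpa using this
  exact isUnit_of_mul_isUnit_left h3

variable {X : Scheme.{u}}

/-- affine neighbourhoods -/
theorem exists_affine_nhd (U : X.Opens) (x : X) (hx : x ∈ U) :
    ∃ V : X.Opens, IsAffineOpen V ∧ V ≤ U ∧ x ∈ V := by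
  obtain ⟨_, ⟨V, hV, rfl⟩, hxV, hVU⟩ :=
    X.isBasis_affineOpens.exists_subset_of_mem_open hx U.isOpen
  exact ⟨V, hV, hVU, hxV⟩

/-- a section of an abelian sheaf on a scheme vanishing on all affine opens vanishes -/
theorem eq_zero_of_affine (G : CohTop.Ab X.toTopCat) (U : X.Opens) (t : G.obj.obj (op U))
    (h : ∀ (W : X.Opens) (hW : W ≤ U), IsAffineOpen W → G.obj.map (homOfLE hW).op t = 0) :
    t = 0 := by
  have key : ∀ x : U, ∃ W : X.Opens, ∃ hW : W ≤ U, IsAffineOpen W ∧ x.1 ∈ W := by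
    intro x
    obtain ⟨W, hW, hWU, hxW⟩ := exists_affine_nhd U x.1 x.2
    exact ⟨W, hWU, hW, hxW⟩
  choose W hWU hWa hxW using key
  apply TopCat.Sheaf.eq_of_locally_eq' (C := AddCommGrpCat.{u}) G W U (fun x => homOfLE (hWU x))
  · intro x hx
    exact Opens.mem_iSup.2 ⟨⟨x, hx⟩, hxW ⟨x, hx⟩⟩
  · intro x
    rw [map_zero]
    exact h (W x) (hWU x) (hWa x)

theorem hom_eq_zero_of_affine {F G : CohTop.Ab X.toTopCat} (f : F ⟶ G)
    (h : ∀ (W : X.Opens), IsAffineOpen W → ∀ s : F.obj.obj (op W), f.hom.app (op W) s = 0) :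
    f = 0 := by
  apply hom_eq_zero_of_app
  intro U s
  obtain ⟨U⟩ := U
  apply eq_zero_of_affine G U
  intro W hW hWa
  have h1 := ConcreteCategory.congr_hom (f.hom.naturality (homOfLE hW).op) s
  rw [ConcreteCategory.comp_apply, ConcreteCategory.comp_apply] at h1
  rw [← h1]
  exact h W hWa _

variable {Z : Scheme.{u}} (i : Z ⟶ X)

/-- the unit attached to a section of the pushforward of units -/
theorem comap_app_unit (U : X.Opens) (s : (UnitsSh.unitsAb X).obj.obj (op U)) :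
    Units.val (α := Γ(Z, i ⁻¹ᵁ U)) (UnitsSh.unitOfSect (X := X.toTopCat) (O := (i.base _* Z.presheaf))
      ((UnitsSh.comap i).hom.app (op U) s)) =
      (i.app U).hom (Units.val (α := Γ(X, U)) (UnitsSh.unitOfSect s)) := rfl

/-- `O_X^× ⟶ i_* O_Z^×` is an epimorphism when `i` is surjective on sections over affine opens
with nil kernel -/
theorem epi_comap
    (hsurj : ∀ U : X.Opens, IsAffineOpen U → Function.Surjective (i.app U).hom)
    (hnil : ∀ U : X.Opens, IsAffineOpen U → ∀ a ∈ RingHom.ker (i.app U).hom, IsNilpotent a) :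
    Epi (UnitsSh.comap i) := by
  apply epi_of_local
  intro U t x hx
  obtain ⟨V, hV, hVU, hxV⟩ := exists_affine_nhd U x hx
  refine ⟨V, hVU, hxV, ?_⟩
  set t' := ((CohTop.push i.base).obj (UnitsSh.unitsAb Z)).obj.map (homOfLE hVU).op t with ht'
  let v : (Γ(Z, i ⁻¹ᵁ V))ˣ := UnitsSh.unitOfSect (X := Z.toTopCat) (O := Z.presheaf) t'
  obtain ⟨b, hb⟩ := hsurj V hV (v : Γ(Z, i ⁻¹ᵁ V))
  have hbu : IsUnit b := isUnit_of_map_of_ker_nil _ (hsurj V hV) (hnil V hV) b (by
    rw [hb]; exact v.isUnit)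
  refine ⟨UnitsSh.sectOfUnit (X := X.toTopCat) (O := X.presheaf) hbu.unit, ?_⟩
  have : v = UnitsSh.unitOfSect (X := Z.toTopCat) (O := Z.presheaf) t' := rfl
  apply (UnitsSh.sectEquiv Z.sheaf _).injective
  show Additive.ofMul (UnitsSh.unitOfSect (X := Z.toTopCat) (O := Z.presheaf) _) =
    Additive.ofMul (UnitsSh.unitOfSect (X := Z.toTopCat) (O := Z.presheaf) t')
  congr 1
  apply Units.ext
  rw [← this, ← hb]
  rfl

end Groth.Agent.Lib.Helper2.UnitsTh
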