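import Groth.Agent.Lib.Helper2.UnitsTh.Coh
import Groth.Agent.Lib.Helper2.UnitsTh.Units

/-!
# A retraction of a surjective immersion splits the units map
-/

set_option autoImplicit false
universe u
open CategoryTheory CategoryTheory.Limits Opposite TopologicalSpace AlgebraicGeometry

namespace Groth.Agent.Lib.Helper2.UnitsTh

variable {X X' : Scheme.{u}} (i : X ⟶ X') (r : X' ⟶ X) (hir : i ≫ r = 𝟙 X)
  (hsurj : Function.Surjective i.base)

include hir hsurj in
theorem le_preimage_ri (U : X'.Opens) : U ≤ r ⁻¹ᵁ (i ⁻¹ᵁ U) := by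
  intro x hx
  obtain ⟨y, rfl⟩ := hsurj x
  have h1 : r.base (i.base y) = y := by
    have := congrArg (fun φ : X ⟶ X => φ.base y) hir
    exact this
  show i.base (r.base (i.base y)) ∈ U
  rw [h1]; exact hx

theorem appLE_eq_id (φ : X ⟶ X) (hφ : φ = 𝟙 X) (U : X.Opens) (e : U ≤ φ ⁻¹ᵁ U) :
    φ.appLE U U e = 𝟙 _ := by
  subst hφ
  have h1 : (𝟙 X : X ⟶ X).appLE U U e = (𝟙 X : X ⟶ X).app U ≫ X.presheaf.map (homOfLE e).op := rfl
  have h2 : (homOfLE e) = 𝟙 _ := Subsingleton.elim _ _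
  rw [h1, h2]
  erw [op_id, CategoryTheory.Functor.map_id, Category.comp_id]
  rfl

/-- the ring-level section -/
noncomputable def τpre : (i.base _* X.presheaf) ⟶ X'.presheaf where
  app U := r.appLE (i ⁻¹ᵁ U.unop) U.unop (le_preimage_ri i r hir hsurj U.unop)
  naturality := by
    intro U V h
    show X.presheaf.map ((Opens.map i.base).map h.unop).op ≫ r.appLE _ _ _ =
      r.appLE _ _ _ ≫ X'.presheaf.map h
    rw [Scheme.Hom.map_appLE, Scheme.Hom.appLE_map]

theorem τpre_comp (U : (Opens X')ᵒᵖ) :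
    (τpre i r hir hsurj).app U ≫ i.c.app U = 𝟙 _ := by
  show r.appLE (i ⁻¹ᵁ U.unop) U.unop _ ≫ i.app U.unop = 𝟙 _
  rw [Scheme.Hom.app_eq_appLE, Scheme.Hom.appLE_comp_appLE]
  exact appLE_eq_id _ hir _ _

/-- the section of `O^× → i_* O^×` -/
noncomputable def τ : (CohTop.push i.base).obj (UnitsSh.unitsAb X) ⟶ UnitsSh.unitsAb X' :=
  ⟨Functor.whiskerRight (τpre i r hir hsurj) UnitsSh.unitsFunctor⟩

theorem τ_comap : τ i r hir hsurj ≫ UnitsSh.comap i = 𝟙 _ := by
  apply ObjectProperty.hom_ext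
  ext U : 2
  show UnitsSh.unitsFunctor.map ((τpre i r hir hsurj).app U) ≫
    UnitsSh.unitsFunctor.map (i.c.app U) = 𝟙 _
  rw [← Functor.map_comp, τpre_comp, CategoryTheory.Functor.map_id]

include hir hsurj in
/-- surjectivity on cohomology -/
theorem surjective_H_comap_of_retraction (q : ℕ) :
    Function.Surjective (Sheaf.H.map (UnitsSh.comap i) q) := by
  intro x
  refine ⟨Sheaf.H.map (τ i r hir hsurj) q x, ?_⟩
  rw [← Sheaf.H.map_comp_apply, τ_comap, Sheaf.H.map_id_apply]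

end Groth.Agent.Lib.Helper2.UnitsTh
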