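import Groth.Agent.Lib.Helper2.UnitsTh.Coh
import Groth.Prelude.Def_CohTop

/-!
# Abelian sheaves on a space: sectionwise criteria
-/

set_option autoImplicit false
universe u
open CategoryTheory CategoryTheory.Limits Opposite TopologicalSpace

namespace Groth.Agent.Lib.Helper2.UnitsTh

variable {X : TopCat.{u}}

theorem app_injective_of_mono {F G : CohTop.Ab X} (f : F ⟶ G) [Mono f] (U : (Opens X)ᵒᵖ) :
    Function.Injective (f.hom.app U) := by
  let Γ : CohTop.Ab X ⥤ AddCommGrpCat.{u} :=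
    sheafToPresheaf _ AddCommGrpCat.{u} ⋙ (evaluation _ _).obj U
  have : Mono (Γ.map f) := inferInstance
  exact (AddCommGrpCat.mono_iff_injective _).1 this

theorem exists_of_exact {S : ShortComplex (CohTop.Ab X)} (hex : S.Exact) [Mono S.f]
    (U : (Opens X)ᵒᵖ) (e : S.X₂.obj.obj U) (he : S.g.hom.app U e = 0) :
    ∃ g : S.X₁.obj.obj U, S.f.hom.app U g = e := by
  let Γ : CohTop.Ab X ⥤ AddCommGrpCat.{u} :=
    sheafToPresheaf _ AddCommGrpCat.{u} ⋙ (evaluation _ _).obj U
  have h1 : (S.map Γ).Exact :=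
    hex.map_of_mono_of_preservesKernel Γ inferInstance inferInstance
  rw [ShortComplex.ab_exact_iff] at h1
  exact h1 e he

/-- sections of a kernel -/
theorem kernel_ι_injective {F G : CohTop.Ab X} (f : F ⟶ G) (U : (Opens X)ᵒᵖ) :
    Function.Injective ((kernel.ι f).hom.app U) :=
  app_injective_of_mono _ U

theorem kernel_ι_comp_apply {F G : CohTop.Ab X} (f : F ⟶ G) (U : (Opens X)ᵒᵖ)
    (y : (kernel f).obj.obj U) : f.hom.app U ((kernel.ι f).hom.app U y) = 0 := by
  have h : kernel.ι f ≫ f = 0 := kernel.condition f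
  have h2 := congrArg (fun φ : kernel f ⟶ G => φ.hom.app U y) h
  exact h2

theorem exists_kernel_ι_eq {F G : CohTop.Ab X} (f : F ⟶ G) (U : (Opens X)ᵒᵖ)
    (e : F.obj.obj U) (he : f.hom.app U e = 0) :
    ∃ y : (kernel f).obj.obj U, (kernel.ι f).hom.app U y = e := by
  have hex : (ShortComplex.mk (kernel.ι f) f (kernel.condition f)).Exact :=
    ShortComplex.exact_kernel f
  haveI : Mono (ShortComplex.mk (kernel.ι f) f (kernel.condition f)).f :=
    inferInstanceAs (Mono (kernel.ι f))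
  exact exists_of_exact hex U e he

/-- local surjectivity criterion for epimorphisms -/
theorem epi_of_local {F G : CohTop.Ab X} (g : F ⟶ G)
    (h : ∀ (U : Opens X) (t : G.obj.obj (op U)) (x : X), x ∈ U →
      ∃ (V : Opens X) (hV : V ≤ U), x ∈ V ∧
        ∃ s : F.obj.obj (op V), g.hom.app (op V) s = G.obj.map (homOfLE hV).op t) : Epi g := by
  refine (TopCat.Sheaf.isLocallySurjective_iff_epi g).mp ?_
  rw [TopCat.Presheaf.isLocallySurjective_iff]
  intro U t x hx
  obtain ⟨V, hV, hxV, s, hs⟩ := h U t x hx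
  exact ⟨V, hV, ⟨s, hs⟩, hxV⟩

theorem local_of_epi {F G : CohTop.Ab X} (g : F ⟶ G) [hg : Epi g]
    (U : Opens X) (t : G.obj.obj (op U)) (x : X) (hx : x ∈ U) :
    ∃ (V : Opens X) (hV : V ≤ U), x ∈ V ∧
        ∃ s : F.obj.obj (op V), g.hom.app (op V) s = G.obj.map (homOfLE hV).op t := by
  have hls := (TopCat.Presheaf.isLocallySurjective_iff g.hom).mp
    ((TopCat.Sheaf.isLocallySurjective_iff_epi g).mpr hg)
  obtain ⟨V, hV, ⟨s, hs⟩, hxV⟩ := hls U t x hx
  exact ⟨V, hV, hxV, s, hs⟩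

theorem mono_of_app_injective {F G : CohTop.Ab X} (f : F ⟶ G)
    (h : ∀ U : (Opens X)ᵒᵖ, Function.Injective (f.hom.app U)) : Mono f := by
  haveI : ∀ U, Mono (f.hom.app U) := fun U => (AddCommGrpCat.mono_iff_injective _).2 (h U)
  haveI : Mono f.hom := NatTrans.mono_of_mono_app _
  exact (sheafToPresheaf _ _).mono_of_mono_map (inferInstanceAs (Mono f.hom))

/-- a short complex of sheaves which is sectionwise left exact and locally right exact -/
theorem shortExact_of_local (S : ShortComplex (CohTop.Ab X))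
    (hinj : ∀ U : (Opens X)ᵒᵖ, Function.Injective (S.f.hom.app U))
    (hex : ∀ (U : (Opens X)ᵒᵖ) (e : S.X₂.obj.obj U), S.g.hom.app U e = 0 →
      ∃ g : S.X₁.obj.obj U, S.f.hom.app U g = e)
    (hsurj : ∀ (U : Opens X) (t : S.X₃.obj.obj (op U)) (x : X), x ∈ U →
      ∃ (V : Opens X) (hV : V ≤ U), x ∈ V ∧
        ∃ s : S.X₂.obj.obj (op V), S.g.hom.app (op V) s = S.X₃.obj.map (homOfLE hV).op t) :
    S.ShortExact := by
  have h1 : S.Exact := by
    apply Groth.Agent.Lib.Helper22.SheafExact.exact_of_presheaf_exact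
    apply Groth.Agent.Lib.Helper22.SheafExact.exact_of_evaluation
    intro U
    rw [ShortComplex.ab_exact_iff]
    intro x hx
    exact hex U x hx
  haveI := mono_of_app_injective S.f hinj
  haveI := epi_of_local S.g hsurj
  exact ShortComplex.ShortExact.mk' h1 inferInstance inferInstance

theorem isZero_of_subsingleton (F : CohTop.Ab X)
    (h : ∀ U : (Opens X)ᵒᵖ, Subsingleton (F.obj.obj U)) : IsZero F := by
  rw [IsZero.iff_id_eq_zero]
  apply ObjectProperty.hom_ext
  ext U s
  exact Subsingleton.elim _ _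

theorem hom_eq_zero_of_app {F G : CohTop.Ab X} (f : F ⟶ G)
    (h : ∀ (U : (Opens X)ᵒᵖ) (s : F.obj.obj U), f.hom.app U s = 0) : f = 0 := by
  apply ObjectProperty.hom_ext
  ext U s
  exact h U s

/-- two quotients of the same object with the same kernel are isomorphic -/
theorem nonempty_iso_of_epi_of_kernel {A : Type*} [Category A] [Abelian A] {P V W : A}
    (θ : P ⟶ V) (ρ : P ⟶ W) [Epi θ] [Epi ρ]
    (h1 : kernel.ι θ ≫ ρ = 0) (h2 : kernel.ι ρ ≫ θ = 0) : Nonempty (V ≅ W) := by
  let a : V ⟶ W := (Abelian.epiIsCokernelOfKernel (KernelFork.ofι _ (kernel.condition θ))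
    (kernelIsKernel θ)).desc (CokernelCofork.ofπ ρ h1)
  let b : W ⟶ V := (Abelian.epiIsCokernelOfKernel (KernelFork.ofι _ (kernel.condition ρ))
    (kernelIsKernel ρ)).desc (CokernelCofork.ofπ θ h2)
  have ha : θ ≫ a = ρ := (Abelian.epiIsCokernelOfKernel (KernelFork.ofι _ (kernel.condition θ))
    (kernelIsKernel θ)).fac (CokernelCofork.ofπ ρ h1) WalkingParallelPair.one
  have hb : ρ ≫ b = θ := (Abelian.epiIsCokernelOfKernel (KernelFork.ofι _ (kernel.condition ρ))
    (kernelIsKernel ρ)).fac (CokernelCofork.ofπ θ h2) WalkingParallelPair.one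
  refine ⟨⟨a, b, ?_, ?_⟩⟩
  · rw [← cancel_epi θ, ← Category.assoc, ha, hb, Category.comp_id]
  · rw [← cancel_epi ρ, ← Category.assoc, hb, ha, Category.comp_id]

end Groth.Agent.Lib.Helper2.UnitsTh
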