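import Groth.Agent.Lib.Helper2.UnitsTh.Step2

/-!
# `0 → J → O^× → i_* O^× → 0` for a square-zero ideal
-/

set_option autoImplicit false
universe u
open CategoryTheory CategoryTheory.Limits Opposite TopologicalSpace AlgebraicGeometry

namespace Groth.Agent.Lib.Helper2.UnitsTh

variable {X : Scheme.{u}} (J : X.IdealSheafData)

/-- the ideal as an abelian sheaf -/
noncomputable abbrev JAb : CohTop.Ab X.toTopCat := Coh.toAb (ClSub.idealMod J)

/-- `J ⟶ O` as abelian sheaves -/
noncomputable abbrev ιJ : JAb J ⟶ OAb X :=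
  (SheafOfModules.toSheaf X.ringCatSheaf).map (ClSub.idealModι J)

theorem ιJ_app (U : X.Opens) (f : (JAb J).obj.obj (op U)) :
    ofO ((ιJ J).hom.app (op U) f) =
      (show X.sheaf.obj.obj (op U) from (ClSub.idealModι J).val.app (op U) f) := rfl

theorem ιJ_ρ : ιJ J ≫ ρ J.subschemeι = 0 := by
  have h : ClSub.idealModι J ≫ ClSub.unitToPush J.subschemeι = 0 :=
    kernel.condition (ClSub.toSubscheme J)
  calc ιJ J ≫ ρ J.subschemeι
      = (SheafOfModules.toSheaf X.ringCatSheaf).map
          (ClSub.idealModι J ≫ ClSub.unitToPush J.subschemeι) := (Functor.map_comp _ _ _).symm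
    _ = (SheafOfModules.toSheaf X.ringCatSheaf).map 0 := congrArg _ h
    _ = 0 := Functor.map_zero _ _ _

theorem app_ιJ (U : X.Opens) (f : (JAb J).obj.obj (op U)) :
    (J.subschemeι.app U).hom (ofO ((ιJ J).hom.app (op U) f)) = 0 := by
  have h2 := congrArg (fun φ : JAb J ⟶ pushO J.subschemeι => φ.hom.app (op U) f) (ιJ_ρ J)
  exact h2

theorem ιJ_map {U V : X.Opens} (h : V ≤ U) (f : (JAb J).obj.obj (op U)) :
    ofO ((ιJ J).hom.app (op V) ((JAb J).obj.map (homOfLE h).op f)) =
      (X.presheaf.map (homOfLE h).op).hom (ofO ((ιJ J).hom.app (op U) f)) := by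
  have hn := ConcreteCategory.congr_hom ((ιJ J).hom.naturality (homOfLE h).op) f
  rw [ConcreteCategory.comp_apply, ConcreteCategory.comp_apply] at hn
  rw [hn]
  rfl

theorem ιJ_mem (W : X.affineOpens) (f : (JAb J).obj.obj (op W.1)) :
    ofO ((ιJ J).hom.app (op W.1) f) ∈ J.ideal W :=
  Groth.Agent.Lib.Helper29.QCoh.idealModι_app_mem J W f

theorem ιJ_injective (U : X.Opens) : Function.Injective ((ιJ J).hom.app (op U)) :=
  Groth.Agent.Lib.Helper29.QCoh.idealModι_app_injective J U

theorem exists_ιJ_eq (U : X.Opens) (a : Γ(X, U)) (ha : (J.subschemeι.app U).hom a = 0) :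
    ∃ f : (JAb J).obj.obj (op U), ofO ((ιJ J).hom.app (op U) f) = a := by
  have : Mono (ShortComplex.mk (ClSub.idealModι J) (ClSub.toSubscheme J)
    (kernel.condition _)).f := inferInstanceAs (Mono (ClSub.idealModι J))
  have hex := Groth.Agent.Lib.Helper29.QCoh.app_exact_of_exact_of_mono
    (ShortComplex.mk (ClSub.idealModι J) (ClSub.toSubscheme J) (kernel.condition _))
    (ShortComplex.exact_kernel _) U
  obtain ⟨s, hs⟩ := (hex (Groth.Agent.Lib.Helper29.QCoh.toUnit a)).mp ha
  exact ⟨s, hs⟩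

variable (hJ : J * J = ⊥)

include hJ in
theorem ιJ_mul_affine (W : X.affineOpens) (f g : (JAb J).obj.obj (op W.1)) :
    ofO ((ιJ J).hom.app (op W.1) f) * ofO ((ιJ J).hom.app (op W.1) g) = 0 := by
  have h : ofO ((ιJ J).hom.app (op W.1) f) * ofO ((ιJ J).hom.app (op W.1) g) ∈
      (J * J).ideal W := by
    rw [Scheme.IdealSheafData.ideal_mul]
    exact Ideal.mul_mem_mul (ιJ_mem J W f) (ιJ_mem J W g)
  rw [hJ, Scheme.IdealSheafData.ideal_bot] at h
  exact h

include hJ in
theorem ιJ_mul (U : X.Opens) (f g : (JAb J).obj.obj (op U)) :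
    ofO ((ιJ J).hom.app (op U) f) * ofO ((ιJ J).hom.app (op U) g) = 0 := by
  have := eq_zero_of_affine (OAb X) U
    (toO (ofO ((ιJ J).hom.app (op U) f) * ofO ((ιJ J).hom.app (op U) g))) (fun W hW hWa => ?_)
  · exact this
  · apply ofO_injective
    rw [ofO_map, ofO_toO, map_mul, ← ιJ_map, ← ιJ_map]
    exact ιJ_mul_affine J hJ ⟨W, hWa⟩ _ _

/-- `f ↦ 1 + f` on sections -/
noncomputable def φfun (U : X.Opens) (f : (JAb J).obj.obj (op U)) :
    (UnitsSh.unitsAb X).obj.obj (op U) :=
  UnitsSh.sectOfUnit (X := X.toTopCat) (O := X.presheaf)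
    (unitOfSqZero (ofO ((ιJ J).hom.app (op U) f)) (ιJ_mul J hJ U f f))

theorem φfun_val (U : X.Opens) (f : (JAb J).obj.obj (op U)) :
    Units.val (α := Γ(X, U)) (UnitsSh.unitOfSect (φfun J hJ U f)) =
      1 + ofO ((ιJ J).hom.app (op U) f) := rfl

theorem unitOfSect_injective (U : X.Opens) :
    Function.Injective (fun s : (UnitsSh.unitsAb X).obj.obj (op U) =>
      Units.val (α := Γ(X, U)) (UnitsSh.unitOfSect s)) := by
  intro a b h
  exact Units.ext h

theorem φfun_add (U : X.Opens) (f g : (JAb J).obj.obj (op U)) :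
    φfun J hJ U (f + g) = φfun J hJ U f + φfun J hJ U g := by
  apply unitOfSect_injective
  show Units.val (α := Γ(X, U)) (UnitsSh.unitOfSect (φfun J hJ U (f + g))) =
    Units.val (α := Γ(X, U)) (UnitsSh.unitOfSect (φfun J hJ U f)) *
    Units.val (α := Γ(X, U)) (UnitsSh.unitOfSect (φfun J hJ U g))
  rw [φfun_val, φfun_val, φfun_val, map_add, ofO_add]
  have := ιJ_mul J hJ U f g
  linear_combination -this

theorem φfun_map {U V : X.Opens} (h : V ≤ U) (f : (JAb J).obj.obj (op U)) :
    (UnitsSh.unitsAb X).obj.map (homOfLE h).op (φfun J hJ U f) =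
      φfun J hJ V ((JAb J).obj.map (homOfLE h).op f) := by
  apply unitOfSect_injective
  show (X.presheaf.map (homOfLE h).op).hom
    (Units.val (α := Γ(X, U)) (UnitsSh.unitOfSect (φfun J hJ U f))) = _
  rw [φfun_val]
  show _ = 1 + ofO ((ιJ J).hom.app (op V) ((JAb J).obj.map (homOfLE h).op f))
  rw [ιJ_map, map_add, map_one]

/-- `f ↦ 1 + f` as a morphism of abelian sheaves -/
noncomputable def φJ : JAb J ⟶ UnitsSh.unitsAb X :=
  ⟨{ app := fun U => AddCommGrpCat.ofHom (AddMonoidHom.mk' (φfun J hJ U.unop)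
        (φfun_add J hJ U.unop))
     naturality := by
      intro U V ψ
      ext f
      have h : V.unop ≤ U.unop := leOfHom ψ.unop
      exact (φfun_map J hJ h f).symm }⟩

theorem φJ_app (U : X.Opens) (f : (JAb J).obj.obj (op U)) :
    (φJ J hJ).hom.app (op U) f = φfun J hJ U f := rfl

theorem φJ_comap : φJ J hJ ≫ UnitsSh.comap J.subschemeι = 0 := by
  apply hom_eq_zero_of_app
  rintro ⟨U⟩ f
  apply unitV₁_injective
  apply Units.ext
  show ((unitV₁ J.subschemeι ((UnitsSh.comap J.subschemeι).hom.app (op U)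
    ((φJ J hJ).hom.app (op U) f)) : (Γ(J.subscheme, J.subschemeι ⁻¹ᵁ U))ˣ) :
      Γ(J.subscheme, J.subschemeι ⁻¹ᵁ U)) = 1
  rw [unitV₁_comap, φJ_app, φfun_val, map_add, map_one, app_ιJ, add_zero]

include hJ in
theorem epi_comap_subschemeι : Epi (UnitsSh.comap J.subschemeι) := by
  apply epi_comap
  · intro U hU
    exact J.subschemeι.app_surjective U hU
  · intro U hU a ha
    have ha' : a ∈ J.ideal ⟨U, hU⟩ := by
      rw [← J.ker_subschemeι_app ⟨U, hU⟩]; exact ha
    have h : a * a ∈ (J * J).ideal ⟨U, hU⟩ := by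
      rw [Scheme.IdealSheafData.ideal_mul]
      exact Ideal.mul_mem_mul ha' ha'
    rw [hJ, Scheme.IdealSheafData.ideal_bot] at h
    refine ⟨2, ?_⟩
    rw [pow_two]
    exact h

/-- **The principal units of a square-zero thickening.** -/
theorem shortExact_φJ :
    (ShortComplex.mk (φJ J hJ) (UnitsSh.comap J.subschemeι) (φJ_comap J hJ)).ShortExact := by
  apply shortExact_of_local
  · rintro ⟨U⟩ f g hfg
    apply ιJ_injective J U
    have h := congrArg (fun s : (UnitsSh.unitsAb X).obj.obj (op U) =>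
      Units.val (α := Γ(X, U)) (UnitsSh.unitOfSect s)) hfg
    have h2 : 1 + ofO ((ιJ J).hom.app (op U) f) = 1 + ofO ((ιJ J).hom.app (op U) g) := h
    exact ofO_injective (add_left_cancel h2)
  · rintro ⟨U⟩ e he
    have h1 : (J.subschemeι.app U).hom
        (Units.val (α := Γ(X, U)) (UnitsSh.unitOfSect e)) = 1 := by
      rw [← unitV₁_comap]
      have : (UnitsSh.comap J.subschemeι).hom.app (op U) e = 0 := he
      rw [this]
      rfl
    obtain ⟨f, hf⟩ := exists_ιJ_eq J U (Units.val (α := Γ(X, U)) (UnitsSh.unitOfSect e) - 1) (by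
      rw [map_sub, map_one, h1, sub_self])
    refine ⟨f, ?_⟩
    apply unitOfSect_injective
    show Units.val (α := Γ(X, U)) (UnitsSh.unitOfSect (φfun J hJ U f)) = _
    rw [φfun_val, hf]
    ring
  · intro U t x hx
    have := epi_comap_subschemeι J hJ
    exact local_of_epi (UnitsSh.comap J.subschemeι) U t x hx

end Groth.Agent.Lib.Helper2.UnitsTh
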