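import Groth.Agent.Lib.Helper2.UnitsTh.Units
import Groth.Prelude.Def_ClSub2
import Groth.Agent.Lib.Helper22.Cech.AffineMorphism
import Groth.Agent.Lib.Helper29.QCohIdealMod

/-!
# The step: `1 + J'O ⊆ 1 + JO` with quotient `O_{X₀}`
-/

set_option autoImplicit false
universe u
open CategoryTheory CategoryTheory.Limits Opposite TopologicalSpace AlgebraicGeometry

namespace Groth.Agent.Lib.Helper2.UnitsTh

/-- the unit `1 + a` for `a² = 0` -/
def unitOfSqZero {R : Type*} [CommRing R] (a : R) (ha : a * a = 0) : Rˣ :=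
  ⟨1 + a, 1 - a, by rw [show (1 + a) * (1 - a) = 1 - a * a by ring, ha, sub_zero],
    by rw [show (1 - a) * (1 + a) = 1 - a * a by ring, ha, sub_zero]⟩

@[simp] theorem unitOfSqZero_val {R : Type*} [CommRing R] (a : R) (ha : a * a = 0) :
    (unitOfSqZero a ha : R) = 1 + a := rfl

variable {X : Scheme.{u}}

/-- the structure sheaf as an abelian sheaf -/
noncomputable abbrev OAb (X : Scheme.{u}) : CohTop.Ab X.toTopCat := Coh.toAb (Coh.structureModule X)

/-- read a section as a function -/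
def ofO {U : X.Opens} (f : (OAb X).obj.obj (op U)) : Γ(X, U) := f

/-- a function as a section -/
def toO {U : X.Opens} (f : Γ(X, U)) : (OAb X).obj.obj (op U) := f

@[simp] theorem ofO_toO {U : X.Opens} (f : Γ(X, U)) : ofO (toO f) = f := rfl
@[simp] theorem toO_ofO {U : X.Opens} (f : (OAb X).obj.obj (op U)) : toO (ofO f) = f := rfl
theorem ofO_add {U : X.Opens} (f g : (OAb X).obj.obj (op U)) : ofO (f + g) = ofO f + ofO g := rfl
theorem ofO_zero {U : X.Opens} : ofO (0 : (OAb X).obj.obj (op U)) = 0 := rfl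
theorem ofO_injective {U : X.Opens} : Function.Injective (ofO (X := X) (U := U)) := fun _ _ h => h

theorem ofO_map {U V : X.Opens} (h : V ≤ U) (f : (OAb X).obj.obj (op U)) :
    ofO ((OAb X).obj.map (homOfLE h).op f) = (X.presheaf.map (homOfLE h).op).hom (ofO f) := rfl

section rho

variable {Z₀ : Scheme.{u}} (i₀ : Z₀ ⟶ X)

/-- `i_* O_Z` as an abelian sheaf -/
noncomputable abbrev pushO : CohTop.Ab X.toTopCat :=
  Coh.toAb ((Coh.push i₀).obj (Coh.structureModule Z₀))

/-- `O_X → i_* O_Z` as abelian sheaves -/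
noncomputable abbrev ρ : OAb X ⟶ pushO i₀ :=
  (SheafOfModules.toSheaf X.ringCatSheaf).map (ClSub.unitToPush i₀)

theorem ρ_app (U : X.Opens) (f : (OAb X).obj.obj (op U)) :
    ofO (X := Z₀) (U := i₀ ⁻¹ᵁ U) ((ρ i₀).hom.app (op U) f) = (i₀.app U).hom (ofO f) := rfl

theorem epi_ρ (hsurj : ∀ U : X.Opens, IsAffineOpen U → Function.Surjective (i₀.app U).hom) :
    Epi (ρ i₀) := by
  apply epi_of_local
  intro U t x hx
  obtain ⟨V, hV, hVU, hxV⟩ := exists_affine_nhd U x hx
  refine ⟨V, hVU, hxV, ?_⟩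
  obtain ⟨b, hb⟩ := hsurj V hV (ofO (X := Z₀) (U := i₀ ⁻¹ᵁ V)
    ((pushO i₀).obj.map (homOfLE hVU).op t))
  exact ⟨toO b, hb⟩

end rho

variable (s : Γ(X, ⊤))

/-- restriction of a global function -/
noncomputable abbrev sU (U : X.Opens) : Γ(X, U) :=
  (X.presheaf.map (homOfLE (le_top : U ≤ ⊤)).op).hom s

theorem sU_map {U V : X.Opens} (h : V ≤ U) :
    (X.presheaf.map (homOfLE h).op).hom (sU s U) = sU s V := by
  show ((X.presheaf.map (homOfLE (le_top : U ≤ ⊤)).op) ≫ (X.presheaf.map (homOfLE h).op)).hom s = _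
  rw [← X.presheaf.map_comp]
  rfl

theorem sU_mul (t : Γ(X, ⊤)) (U : X.Opens) : sU (s * t) U = sU s U * sU t U := map_mul _ _ _

variable {Z : Scheme.{u}} (i : Z ⟶ X)

theorem app_sU (U : X.Opens) :
    (i.app U).hom (sU s U) =
      (Z.presheaf.map (homOfLE (le_top : i ⁻¹ᵁ U ≤ i ⁻¹ᵁ ⊤)).op).hom ((i.app ⊤).hom s) := by
  have h := i.naturality (homOfLE (le_top : U ≤ ⊤)).op
  have h2 := ConcreteCategory.congr_hom h s
  exact h2

theorem app_sU_eq_zero (h : (i.app ⊤).hom s = 0) (U : X.Opens) : (i.app U).hom (sU s U) = 0 := by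
  rw [app_sU, h]
  exact map_zero _

theorem app_map {U V : X.Opens} (h : V ≤ U) (a : Γ(X, U)) :
    (i.app V).hom ((X.presheaf.map (homOfLE h).op).hom a) =
      (Z.presheaf.map (homOfLE (show i ⁻¹ᵁ V ≤ i ⁻¹ᵁ U from fun _ hx => h hx)).op).hom
        ((i.app U).hom a) := by
  have h1 := i.naturality (homOfLE h).op
  exact ConcreteCategory.congr_hom h1 a

end Groth.Agent.Lib.Helper2.UnitsTh
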