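import Groth.Agent.Lib.Helper2.UnitsTh.Step

/-!
# The step: the map `O_X → ker(i₁_*O^× → i₂_*O^×)`, `f ↦ 1 + s f`
-/

set_option autoImplicit false
universe u
open CategoryTheory CategoryTheory.Limits Opposite TopologicalSpace AlgebraicGeometry

namespace Groth.Agent.Lib.Helper2.UnitsTh

variable {X Z₁ Z₂ : Scheme.{u}} (i₁ : Z₁ ⟶ X) (g : Z₂ ⟶ Z₁) (s : Γ(X, ⊤))

/-- `i₁_* O^×` -/
noncomputable abbrev V₁ : CohTop.Ab X.toTopCat := (CohTop.push i₁.base).obj (UnitsSh.unitsAb Z₁)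

/-- the unit of a section of `i₁_* O^×` -/
def unitV₁ {U : X.Opens} (v : (V₁ i₁).obj.obj (op U)) : (Γ(Z₁, i₁ ⁻¹ᵁ U))ˣ :=
  UnitsSh.unitOfSect (X := Z₁.toTopCat) (O := Z₁.presheaf) v

/-- a unit as a section of `i₁_* O^×` -/
def sectV₁ {U : X.Opens} (v : (Γ(Z₁, i₁ ⁻¹ᵁ U))ˣ) : (V₁ i₁).obj.obj (op U) :=
  UnitsSh.sectOfUnit (X := Z₁.toTopCat) (O := Z₁.presheaf) v

@[simp] theorem unitV₁_sectV₁ {U : X.Opens} (v : (Γ(Z₁, i₁ ⁻¹ᵁ U))ˣ) :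
    unitV₁ i₁ (sectV₁ i₁ v) = v := rfl

theorem unitV₁_injective {U : X.Opens} : Function.Injective (unitV₁ i₁ (U := U)) := fun _ _ h => h

theorem unitV₁_zero {U : X.Opens} : unitV₁ i₁ (0 : (V₁ i₁).obj.obj (op U)) = 1 := rfl

theorem unitV₁_add {U : X.Opens} (v w : (V₁ i₁).obj.obj (op U)) :
    unitV₁ i₁ (v + w) = unitV₁ i₁ v * unitV₁ i₁ w := rfl

theorem unitV₁_map {U V : X.Opens} (h : V ≤ U) (v : (V₁ i₁).obj.obj (op U)) :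
    ((unitV₁ i₁ ((V₁ i₁).obj.map (homOfLE h).op v) : (Γ(Z₁, i₁ ⁻¹ᵁ V))ˣ) : Γ(Z₁, i₁ ⁻¹ᵁ V)) =
      (Z₁.presheaf.map (homOfLE (show i₁ ⁻¹ᵁ V ≤ i₁ ⁻¹ᵁ U from fun _ hx => h hx)).op).hom
        ((unitV₁ i₁ v : (Γ(Z₁, i₁ ⁻¹ᵁ U))ˣ) : Γ(Z₁, i₁ ⁻¹ᵁ U)) := rfl

theorem unitV₁_comap {U : X.Opens} (u : (UnitsSh.unitsAb X).obj.obj (op U)) :
    ((unitV₁ i₁ ((UnitsSh.comap i₁).hom.app (op U) u) : (Γ(Z₁, i₁ ⁻¹ᵁ U))ˣ) : Γ(Z₁, i₁ ⁻¹ᵁ U)) =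
      (i₁.app U).hom ((UnitsSh.unitOfSect u : (Γ(X, U))ˣ) : Γ(X, U)) := rfl

section theta

variable (h1 : (i₁.app ⊤).hom (s * s) = 0)

include h1 in
theorem sq_zero (U : X.Opens) (a b : Γ(X, U)) :
    (i₁.app U).hom (sU s U * a) * (i₁.app U).hom (sU s U * b) = 0 := by
  rw [← map_mul, show sU s U * a * (sU s U * b) = sU s U * sU s U * (a * b) by ring, map_mul,
    ← sU_mul, app_sU_eq_zero (s * s) i₁ h1, zero_mul]

/-- `f ↦ 1 + i₁(s f)` on sections -/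
noncomputable def θfun (U : X.Opens) (f : (OAb X).obj.obj (op U)) : (V₁ i₁).obj.obj (op U) :=
  sectV₁ i₁ (unitOfSqZero ((i₁.app U).hom (sU s U * ofO f)) (sq_zero i₁ s h1 U _ _))

theorem θfun_val (U : X.Opens) (f : (OAb X).obj.obj (op U)) :
    ((unitV₁ i₁ (θfun i₁ s h1 U f) : (Γ(Z₁, i₁ ⁻¹ᵁ U))ˣ) : Γ(Z₁, i₁ ⁻¹ᵁ U)) =
      1 + (i₁.app U).hom (sU s U * ofO f) := rfl

theorem θfun_add (U : X.Opens) (f f' : (OAb X).obj.obj (op U)) :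
    θfun i₁ s h1 U (f + f') = θfun i₁ s h1 U f + θfun i₁ s h1 U f' := by
  apply unitV₁_injective
  rw [unitV₁_add]
  apply Units.ext
  rw [Units.val_mul, θfun_val, θfun_val, θfun_val, ofO_add, mul_add, map_add]
  have := sq_zero i₁ s h1 U (ofO f) (ofO f')
  linear_combination -this

theorem θfun_map {U V : X.Opens} (h : V ≤ U) (f : (OAb X).obj.obj (op U)) :
    (V₁ i₁).obj.map (homOfLE h).op (θfun i₁ s h1 U f) =
      θfun i₁ s h1 V ((OAb X).obj.map (homOfLE h).op f) := by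
  apply unitV₁_injective
  apply Units.ext
  rw [unitV₁_map, θfun_val, θfun_val, map_add, map_one, ofO_map, ← sU_map s h, ← map_mul,
    app_map]

/-- `f ↦ 1 + i₁(s f)` as a morphism of abelian sheaves -/
noncomputable def θ' : OAb X ⟶ V₁ i₁ :=
  ⟨{ app := fun U => AddCommGrpCat.ofHom (AddMonoidHom.mk' (θfun i₁ s h1 U.unop)
        (θfun_add i₁ s h1 U.unop))
     naturality := by
      intro U V φ
      ext f
      have h : V.unop ≤ U.unop := leOfHom φ.unop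
      exact (θfun_map i₁ s h1 h f).symm }⟩

theorem θ'_app (U : X.Opens) (f : (OAb X).obj.obj (op U)) :
    (θ' i₁ s h1).hom.app (op U) f = θfun i₁ s h1 U f := rfl

end theta

end Groth.Agent.Lib.Helper2.UnitsTh
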