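import Groth.Agent.Lib.Helper2.UnitsTh.Step2

/-!
# The step: `ker(i₁_*O^× → i₂_*O^×) ≅ i₀_* O`
-/

set_option autoImplicit false
universe u
open CategoryTheory CategoryTheory.Limits Opposite TopologicalSpace AlgebraicGeometry

namespace Groth.Agent.Lib.Helper2.UnitsTh

variable {X Z₁ Z₂ Z₀ : Scheme.{u}} (i₁ : Z₁ ⟶ X) (g : Z₂ ⟶ Z₁) (i₀ : Z₀ ⟶ X) (s : Γ(X, ⊤))

/-- `i₁_* O^× → i₁_* g_* O^×` -/
noncomputable abbrev γ : V₁ i₁ ⟶ (CohTop.push i₁.base).obj ((CohTop.push g.base).obj (UnitsSh.unitsAb Z₂)) :=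
  (CohTop.push i₁.base).map (UnitsSh.comap g)

/-- the unit of a section of `i₁_* g_* O^×` -/
def unitV₂ {U : X.Opens}
    (v : ((CohTop.push i₁.base).obj ((CohTop.push g.base).obj (UnitsSh.unitsAb Z₂))).obj.obj (op U)) :
    (Γ(Z₂, g ⁻¹ᵁ i₁ ⁻¹ᵁ U))ˣ :=
  UnitsSh.unitOfSect (X := Z₂.toTopCat) (O := Z₂.presheaf) v

theorem unitV₂_injective {U : X.Opens} : Function.Injective (unitV₂ i₁ g (U := U)) :=
  fun _ _ h => h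

theorem unitV₂_γ {U : X.Opens} (v : (V₁ i₁).obj.obj (op U)) :
    ((unitV₂ i₁ g ((γ i₁ g).hom.app (op U) v) : (Γ(Z₂, g ⁻¹ᵁ i₁ ⁻¹ᵁ U))ˣ) : Γ(Z₂, g ⁻¹ᵁ i₁ ⁻¹ᵁ U)) =
      (g.app (i₁ ⁻¹ᵁ U)).hom ((unitV₁ i₁ v : (Γ(Z₁, i₁ ⁻¹ᵁ U))ˣ) : Γ(Z₁, i₁ ⁻¹ᵁ U)) := rfl

theorem comp_app_apply (U : X.Opens) (a : Γ(X, U)) :
    ((g ≫ i₁).app U).hom a = (g.app (i₁ ⁻¹ᵁ U)).hom ((i₁.app U).hom a) := rfl

variable (h1 : (i₁.app ⊤).hom (s * s) = 0) (h2 : ((g ≫ i₁).app ⊤).hom s = 0)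

include h2 in
theorem θ'_γ : θ' i₁ s h1 ≫ γ i₁ g = 0 := by
  apply hom_eq_zero_of_app
  rintro ⟨U⟩ f
  apply unitV₂_injective
  apply Units.ext
  show ((unitV₂ i₁ g ((γ i₁ g).hom.app (op U) ((θ' i₁ s h1).hom.app (op U) f)) :
    (Γ(Z₂, g ⁻¹ᵁ i₁ ⁻¹ᵁ U))ˣ) : Γ(Z₂, g ⁻¹ᵁ i₁ ⁻¹ᵁ U)) = 1
  rw [unitV₂_γ, θ'_app, θfun_val, map_add, map_one, ← comp_app_apply, map_mul,
    app_sU_eq_zero s (g ≫ i₁) h2, zero_mul]
  exact add_zero _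

/-- `f ↦ 1 + i₁(s f)`, into the kernel -/
noncomputable def θ : OAb X ⟶ kernel (γ i₁ g) :=
  kernel.lift (γ i₁ g) (θ' i₁ s h1) (θ'_γ i₁ g s h1 h2)

theorem θ_ι : θ i₁ g s h1 h2 ≫ kernel.ι (γ i₁ g) = θ' i₁ s h1 := kernel.lift_ι _ _ _

theorem θ_ι_app (U : X.Opens) (f : (OAb X).obj.obj (op U)) :
    (kernel.ι (γ i₁ g)).hom.app (op U) ((θ i₁ g s h1 h2).hom.app (op U) f) =
      θfun i₁ s h1 U f := by
  have h := congrArg (fun φ : OAb X ⟶ V₁ i₁ => φ.hom.app (op U) f) (θ_ι i₁ g s h1 h2)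
  exact h

section main

variable
  (hs₁ : ∀ U : X.Opens, IsAffineOpen U → Function.Surjective (i₁.app U).hom)
  (hs₀ : ∀ U : X.Opens, IsAffineOpen U → Function.Surjective (i₀.app U).hom)
  (hR2 : ∀ U : X.Opens, IsAffineOpen U →
    RingHom.ker ((g ≫ i₁).app U).hom ≤ RingHom.ker (i₁.app U).hom ⊔ Ideal.span {sU s U})
  (hR3 : ∀ U : X.Opens, IsAffineOpen U → ∀ b : Γ(X, U),
    (i₁.app U).hom (sU s U * b) = 0 ↔ (i₀.app U).hom b = 0)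

include hs₁ hR2 in
theorem epi_θ : Epi (θ i₁ g s h1 h2) := by
  apply epi_of_local
  intro U t x hx
  obtain ⟨V, hV, hVU, hxV⟩ := exists_affine_nhd U x hx
  refine ⟨V, hVU, hxV, ?_⟩
  set t' := (kernel (γ i₁ g)).obj.map (homOfLE hVU).op t with ht'
  set v := (kernel.ι (γ i₁ g)).hom.app (op V) t' with hv
  have hγv : (γ i₁ g).hom.app (op V) v = 0 := kernel_ι_comp_apply _ _ _
  obtain ⟨b, hb⟩ := hs₁ V hV ((unitV₁ i₁ v : (Γ(Z₁, i₁ ⁻¹ᵁ V))ˣ) : Γ(Z₁, i₁ ⁻¹ᵁ V))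
  have hb1 : b - 1 ∈ RingHom.ker ((g ≫ i₁).app V).hom := by
    rw [RingHom.mem_ker, map_sub, map_one, comp_app_apply, hb, ← unitV₂_γ, hγv]
    show (1 : Γ(Z₂, g ⁻¹ᵁ i₁ ⁻¹ᵁ V)) - 1 = 0
    exact sub_self _
  obtain ⟨k, hk, c', hc', hkc⟩ := Submodule.mem_sup.1 (hR2 V hV hb1)
  obtain ⟨c, rfl⟩ := Ideal.mem_span_singleton'.1 hc'
  refine ⟨toO c, ?_⟩
  apply kernel_ι_injective (γ i₁ g) (op V)
  rw [θ_ι_app]
  apply unitV₁_injective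
  apply Units.ext
  rw [θfun_val, ← hv, ← hb, ofO_toO]
  have : b = 1 + (k + c * sU s V) := by rw [hkc]; ring
  rw [this, map_add, map_one, map_add, (RingHom.mem_ker).1 hk, zero_add, mul_comm]

include hR3 in
theorem ker_θ_ρ : kernel.ι (θ i₁ g s h1 h2) ≫ ρ i₀ = 0 := by
  apply hom_eq_zero_of_affine
  intro W hW y
  set f := (kernel.ι (θ i₁ g s h1 h2)).hom.app (op W) y with hf
  have h0 : (θ i₁ g s h1 h2).hom.app (op W) f = 0 := kernel_ι_comp_apply _ _ _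
  have h3 : θfun i₁ s h1 W f = 0 := by rw [← θ_ι_app i₁ g s h1 h2, h0, map_zero]
  have h4 : (i₁.app W).hom (sU s W * ofO f) = 0 := by
    have := congrArg (fun v => ((unitV₁ i₁ v : (Γ(Z₁, i₁ ⁻¹ᵁ W))ˣ) : Γ(Z₁, i₁ ⁻¹ᵁ W))) h3
    simp only [θfun_val, unitV₁_zero, Units.val_one] at this
    simpa using this
  have h5 := (hR3 W hW (ofO f)).1 h4
  show (ρ i₀).hom.app (op W) f = 0
  apply ofO_injective (X := Z₀)
  rw [ρ_app, h5]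
  rfl

include hR3 in
theorem ker_ρ_θ : kernel.ι (ρ i₀) ≫ θ i₁ g s h1 h2 = 0 := by
  apply hom_eq_zero_of_affine
  intro W hW y
  set f := (kernel.ι (ρ i₀)).hom.app (op W) y with hf
  have h0 : (ρ i₀).hom.app (op W) f = 0 := kernel_ι_comp_apply _ _ _
  have h5 : (i₀.app W).hom (ofO f) = 0 := by
    rw [← ρ_app, h0]; rfl
  have h4 := (hR3 W hW (ofO f)).2 h5
  show (θ i₁ g s h1 h2).hom.app (op W) f = 0
  apply kernel_ι_injective (γ i₁ g) (op W)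
  rw [θ_ι_app, map_zero]
  apply unitV₁_injective
  apply Units.ext
  rw [θfun_val, h4, add_zero]
  rfl

include h1 h2 hs₁ hs₀ hR2 hR3 in
theorem nonempty_kernel_γ_iso : Nonempty (kernel (γ i₁ g) ≅ pushO i₀) := by
  have := epi_θ i₁ g s h1 h2 hs₁ hR2
  have := epi_ρ i₀ hs₀
  exact nonempty_iso_of_epi_of_kernel (θ i₁ g s h1 h2) (ρ i₀)
    (ker_θ_ρ i₁ g i₀ s h1 h2 hR3) (ker_ρ_θ i₁ g i₀ s h1 h2 hR3)

end main

end Groth.Agent.Lib.Helper2.UnitsTh
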