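import Groth.Agent.Lib.Helper2.UnitsTh.Step4
import Groth.Agent.Lib.Helper2.UnitsTh.Section

/-!
# Principal units of a square-zero principal thickening: `ker(O^× → i_* O^×) ≅ i_* O`
-/

set_option autoImplicit false
universe u
open CategoryTheory CategoryTheory.Limits Opposite TopologicalSpace AlgebraicGeometry

namespace Groth.Agent.Lib.Helper2.UnitsTh

variable {X X' : Scheme.{u}} (i : X ⟶ X') (s : Γ(X', ⊤))

theorem comap_id_app_injective (U : (Opens X')ᵒᵖ) :
    Function.Injective ((UnitsSh.comap (𝟙 X')).hom.app U) := by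
  obtain ⟨U⟩ := U
  intro a b hab
  have ha := comap_app_unit (𝟙 X') U a
  have hb := comap_app_unit (𝟙 X') U b
  rw [hab] at ha
  have h : Units.val (α := Γ(X', U)) (UnitsSh.unitOfSect a) =
      Units.val (α := Γ(X', U)) (UnitsSh.unitOfSect b) := ha.symm.trans hb
  exact Units.ext h

instance mono_comap_id : Mono (UnitsSh.comap (𝟙 X')) :=
  mono_of_app_injective _ (comap_id_app_injective)

theorem epi_comap_id : Epi (UnitsSh.comap (𝟙 X')) := by
  apply epi_comap
  · intro U hU b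
    exact ⟨b, rfl⟩
  · intro U hU a ha
    have : a = 0 := ha
    rw [this]
    exact IsNilpotent.zero

/-- `ker(O^× → i_* O^×) ≅ i_* O` for a principal square-zero thickening with
`ann(s) = ker(i^♯)` -/
theorem nonempty_kernel_comap_iso
    (h1 : s * s = 0) (h2 : (i.app ⊤).hom s = 0)
    (hs₀ : ∀ U : X'.Opens, IsAffineOpen U → Function.Surjective (i.app U).hom)
    (hR2 : ∀ U : X'.Opens, IsAffineOpen U →
      RingHom.ker (i.app U).hom ≤ Ideal.span {sU s U})
    (hR3 : ∀ U : X'.Opens, IsAffineOpen U → ∀ b : Γ(X', U),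
      sU s U * b = 0 ↔ (i.app U).hom b = 0) :
    Nonempty (kernel (UnitsSh.comap i) ≅ pushO i) := by
  have h1' : ((𝟙 X' : X' ⟶ X').app ⊤).hom (s * s) = 0 := h1
  have h2' : ((i ≫ 𝟙 X').app ⊤).hom s = 0 := h2
  obtain ⟨e⟩ := nonempty_kernel_γ_iso (𝟙 X') i i s h1' h2'
    (fun U _ b => ⟨b, rfl⟩) hs₀
    (fun U hU => le_sup_of_le_right (hR2 U hU))
    (fun U hU b => hR3 U hU b)
  have hepi := epi_comap_id (X' := X')
  have hS := shortExact_A (𝟙 X') i
  have hz : IsZero (kernel (UnitsSh.comap (𝟙 X'))) := isZero_kernel_of_mono _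
  have hiso : IsIso (bMap (𝟙 X') i) := hS.isIso_g_iff.2 hz
  have e2 : kernel (UnitsSh.comap (i ≫ 𝟙 X')) ≅ kernel (γ (𝟙 X') i) := asIso (bMap (𝟙 X') i)
  have e3 := e2 ≪≫ e
  rw [Category.comp_id] at e3
  exact ⟨e3⟩

end Groth.Agent.Lib.Helper2.UnitsTh
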