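import Groth.Agent.Lib.Helper2.UnitsTh.Tangent
import Groth.Agent.Lib.Helper2.UnitsTh.PullSurj
import Groth.Agent.Lib.Helper2.UnitsTh.App

/-!
# Tangent space of `H^q(O^×)` for a split principal square-zero thickening
-/

set_option autoImplicit false
universe u
open CategoryTheory CategoryTheory.Limits Opposite TopologicalSpace AlgebraicGeometry

namespace Groth.Agent.Lib.Helper2.UnitsTh

/-- an isomorphism of sheaves induces an isomorphism on cohomology -/
noncomputable def HAddEquivOfIso {C : Type u} [SmallCategory C] {J : GrothendieckTopology C}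
    {F G : Sheaf J AddCommGrpCat.{u}} (e : F ≅ G) (n : ℕ) :
    Sheaf.H.{u} F n ≃+ Sheaf.H.{u} G n where
  toFun := Sheaf.H.map e.hom n
  invFun := Sheaf.H.map e.inv n
  left_inv x := by
    rw [← Sheaf.H.map_comp_apply, e.hom_inv_id, Sheaf.H.map_id_apply]
  right_inv x := by
    rw [← Sheaf.H.map_comp_apply, e.inv_hom_id, Sheaf.H.map_id_apply]
  map_add' x y := map_add _ x y

section general

variable {C : Type u} [SmallCategory C] {J : GrothendieckTopology C}
  {F G : Sheaf J AddCommGrpCat.{u}} (c : F ⟶ G) [Epi c]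

theorem shortExact_kernel : (ShortComplex.mk (kernel.ι c) c (kernel.condition c)).ShortExact :=
  ShortComplex.ShortExact.mk' (ShortComplex.exact_kernel c) inferInstance inferInstance

theorem injective_H_map_kernel_ι (q : ℕ)
    (hsurj : ∀ n, q = n + 1 → Function.Surjective (Sheaf.H.map c n)) :
    Function.Injective (Sheaf.H.map (kernel.ι c) q) := by
  cases q with
  | zero =>
    have := injective_H_map_f_zero (shortExact_kernel c)
    exact this
  | succ n =>
    have := injective_H_map_f_succ (shortExact_kernel c) n (hsurj n rfl)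
    exact this

theorem range_H_map_kernel_ι (q : ℕ) :
    (Sheaf.H.map (kernel.ι c) q).range = (Sheaf.H.map c q).ker := by
  ext x
  constructor
  · rintro ⟨y, rfl⟩
    exact H_map_f_g (S := ShortComplex.mk (kernel.ι c) c (kernel.condition c)) q y
  · intro hx
    exact ker_H_map_g (shortExact_kernel c) q x hx

/-- the kernel of `H^q(c)` when `H^{q-1}(c)` is surjective -/
noncomputable def kerAddEquiv (q : ℕ)
    (hsurj : ∀ n, q = n + 1 → Function.Surjective (Sheaf.H.map c n)) :
    (Sheaf.H.map c q).ker ≃+ Sheaf.H.{u} (kernel c) q :=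
  ((AddMonoidHom.ofInjective (injective_H_map_kernel_ι c q hsurj)).trans
    (AddEquiv.addSubgroupCongr (range_H_map_kernel_ι c q))).symm

end general

theorem nonempty_H_pushO_addEquiv {Z X : Scheme.{u}} (i₀ : Z ⟶ X) [IsAffineHom i₀] (p : ℕ) :
    Nonempty (Sheaf.H.{u} (pushO i₀) p ≃+ Coh.HH Z (Coh.structureModule Z) p) := by
  obtain ⟨e'⟩ := Groth.Agent.Lib.Helper22.Cech.nonempty_HH_addEquiv_HH_push i₀
    (Coh.structureModule Z) p
  exact ⟨e'.symm⟩

variable {X' : Scheme.{u}} {A : Type u} [CommRing A] (f : X' ⟶ Spec (CommRingCat.of A))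
  {B : Type u} [CommRing B] (φ : A →+* B) (hφ : Function.Surjective φ)

include hφ in
theorem nonempty_kernel_comap_iφ_iso [Flat f] (sA : A)
    (hker : RingHom.ker φ = Ideal.span {sA})
    (hcol : ∀ a, a * sA = 0 ↔ a ∈ RingHom.ker φ) (hss : sA * sA = 0) :
    Nonempty (kernel (UnitsSh.comap (iφ f φ)) ≅ pushO (iφ f φ)) := by
  have hcl := isClosedImmersion_qφ φ hφ
  have hsA : φ sA = 0 := by
    rw [← RingHom.mem_ker, hker]
    exact Ideal.subset_span (Set.mem_singleton _)
  refine nonempty_kernel_comap_iso (iφ f φ) (sX f sA) ?_ ?_ ?_ ?_ ?_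
  · rw [← map_mul, hss, map_zero]
  · exact iφ_app_φU f φ ⊤ sA hsA
  · intro U hU
    exact (iφ f φ).app_surjective U hU
  · intro U hU
    rw [ker_iφ_app f φ hφ U hU, hker, Ideal.map_span, Set.image_singleton, sU_sX]
  · intro U hU b
    rw [← RingHom.mem_ker (f := ((iφ f φ).app U).hom), ker_iφ_app f φ hφ U hU, sU_sX]
    letI : Algebra A Γ(X', U) := (φU f U).toAlgebra
    haveI : Module.Flat A Γ(X', U) := flat_φU f U hU
    have h := flat_colon A Γ(X', U) ⊥ (RingHom.ker φ) sA
      (fun a => by rw [Ideal.mem_bot]; exact hcol a) b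
    rw [Ideal.map_bot, Ideal.mem_bot] at h
    exact h

include hφ in
theorem epi_comap_iφ (hnil : ∀ a ∈ RingHom.ker φ, IsNilpotent a) :
    Epi (UnitsSh.comap (iφ f φ)) := by
  have hcl := isClosedImmersion_qφ φ hφ
  apply epi_comap
  · intro U hU
    exact (iφ f φ).app_surjective U hU
  · intro U hU a ha
    rw [ker_iφ_app f φ hφ U hU] at ha
    have hle : (RingHom.ker φ).map (φU f U) ≤ nilradical Γ(X', U) := by
      refine Ideal.span_le.2 ?_
      rintro _ ⟨b, hb, rfl⟩
      exact (hnil b hb).map _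
    exact hle ha

include hφ in
theorem surjective_qφ (hnil : ∀ a ∈ RingHom.ker φ, IsNilpotent a) : Surjective (qφ φ) := by
  rw [surjective_iff, ← Set.range_eq_univ]
  have : Set.range (PrimeSpectrum.comap φ) = Set.univ := by
    rw [_root_.range_comap_of_surjective _ φ hφ, PrimeSpectrum.zeroLocus_eq_univ_iff]
    exact fun a ha => mem_nilradical.2 (hnil a ha)
  exact this

include hφ in
theorem surjective_iφ_base (hnil : ∀ a ∈ RingHom.ker φ, IsNilpotent a) :
    Function.Surjective (iφ f φ).base := by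
  have := surjective_qφ φ hφ hnil
  have h : Surjective (iφ f φ) := inferInstance
  exact h.surj

include hφ in
/-- **Tangent space.** -/
theorem nonempty_ker_addEquiv [Flat f] (sA : A)
    (hker : RingHom.ker φ = Ideal.span {sA})
    (hcol : ∀ a, a * sA = 0 ↔ a ∈ RingHom.ker φ) (hss : sA * sA = 0)
    (r : X' ⟶ pullback f (qφ φ)) (hir : iφ f φ ≫ r = 𝟙 _) (q : ℕ) :
    Nonempty ((Sheaf.H.map (UnitsSh.comap (iφ f φ)) q).ker ≃+
      Coh.HH (pullback f (qφ φ)) (Coh.structureModule (pullback f (qφ φ))) q) := by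
  have hcl := isClosedImmersion_qφ φ hφ
  have hnil : ∀ a ∈ RingHom.ker φ, IsNilpotent a := by
    intro a ha
    rw [hker] at ha
    obtain ⟨b, rfl⟩ := Ideal.mem_span_singleton'.1 ha
    refine ⟨2, ?_⟩
    calc (b * sA) ^ 2 = b * b * (sA * sA) := by ring
      _ = 0 := by rw [hss, mul_zero]
  have hepi := epi_comap_iφ f φ hφ hnil
  have hsurj := surjective_iφ_base f φ hφ hnil
  obtain ⟨e⟩ := nonempty_kernel_comap_iφ_iso f φ hφ sA hker hcol hss
  have hcl2 : IsClosedImmersion (iφ f φ) := inferInstance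
  have haff : IsAffineHom (iφ f φ) := inferInstance
  obtain ⟨e'⟩ := nonempty_H_pushO_addEquiv (iφ f φ) q
  have e1 := kerAddEquiv (UnitsSh.comap (iφ f φ)) q
    (fun n _ => surjective_H_comap_of_retraction (iφ f φ) r hir hsurj n)
  exact ⟨e1.trans ((HAddEquivOfIso e q).trans e')⟩

end Groth.Agent.Lib.Helper2.UnitsTh
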